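import Cfsg.Agent.FusionAux.SeriesStab
import Cfsg.Agent.FusionAlperin.NormalCriteria
import Cfsg.Agent.FusionBatch.Basic
import Cfsg.Agent.FusionSys.Essential

/-! An essential subgroup has no invariant series with all steps of order at most `p`. -/

set_option autoImplicit false
set_option linter.style.haveILetI false

open Cfsg Cfsg.FusionSystem Cfsg.Agent.FusionSys Cfsg.Agent.FusionAux

namespace Cfsg.Agent.H73.SmallEssential

/-- An automorphism of `p`-power order fixes the cosets in a step of order `p`. -/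
theorem step_fixed {G : Type*} [Group G] {p : ℕ} [hp : Fact p.Prime] {L K : Subgroup G} (hLK : L ≤ K)
    [hn : (L.subgroupOf K).Normal] {c : MulAut G} (hL : ∀ l ∈ L, c l ∈ L) (hK : ∀ x ∈ K, c x ∈ K)
    (hd : L.relIndex K ∣ p) {a : ℕ} (hc : c ^ p ^ a = 1) : ∀ x ∈ K, x⁻¹ * c x ∈ L := by
  intro x hx
  rcases hp.out.eq_one_or_self_of_dvd _ hd with h1 | hrel
  · exact Subgroup.relIndex_eq_one.1 h1 (K.mul_mem (K.inv_mem hx) (hK x hx))
  by_cases hxL : x ∈ L
  · exact L.mul_mem (L.inv_mem hxL) (hL x hxL)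
  have hiter : ∀ (n : ℕ), (∀ l ∈ L, (c ^ n) l ∈ L) ∧ ∀ y ∈ K, (c ^ n) y ∈ K := by
    intro n
    induction n with
    | zero => exact ⟨fun l hl => hl, fun y hy => hy⟩
    | succ n ih =>
      refine ⟨fun l hl => ?_, fun y hy => ?_⟩ <;> rw [pow_succ, MulAut.mul_apply]
      exacts [ih.1 _ (hL l hl), ih.2 _ (hK y hy)]
  set π := QuotientGroup.mk' (L.subgroupOf K) with hπ
  set q := π ⟨x, hx⟩ with hq
  have hQ : Nat.card (K ⧸ L.subgroupOf K) = p := hrel
  haveI : Finite (K ⧸ L.subgroupOf K) := Nat.finite_of_card_ne_zero (hQ ▸ hp.out.ne_zero)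
  have hq1 : q ≠ 1 := fun e => hxL ((QuotientGroup.eq_one_iff (N := L.subgroupOf K) ⟨x, hx⟩).1 e)
  obtain ⟨m, hm⟩ : π ⟨c x, hK x hx⟩ ∈ Subgroup.zpowers q :=
    mem_zpowers_of_prime_card hQ hq1
  obtain ⟨l, hl, hxl⟩ : ∃ l ∈ L, c x = x ^ m * l := by
    refine ⟨(x ^ m)⁻¹ * c x, ?_, (mul_inv_cancel_left _ _).symm⟩
    have h2 := QuotientGroup.eq.1 (hm : π (⟨x, hx⟩ ^ m) = π ⟨c x, hK x hx⟩)
    exact h2
  have key : ∀ n : ℕ, π ⟨(c ^ n) x, (hiter n).2 x hx⟩ = q ^ (m ^ n : ℤ) := by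
    intro n
    induction n with
    | zero => exact (zpow_one q).symm.trans (by rw [pow_zero])
    | succ n ih =>
      have h2 : (⟨(c ^ (n + 1)) x, (hiter (n + 1)).2 x hx⟩ : K) =
          (⟨(c ^ n) x, (hiter n).2 x hx⟩ : K) ^ m * ⟨(c ^ n) l, hLK ((hiter n).1 l hl)⟩ := by
        refine Subtype.ext ?_
        show (c ^ (n + 1)) x = (((c ^ n) x) ^ m * (c ^ n) l : G)
        rw [pow_succ, MulAut.mul_apply, hxl, map_mul, map_zpow]
      have h3 : π ⟨(c ^ n) l, hLK ((hiter n).1 l hl)⟩ = 1 :=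
        (QuotientGroup.eq_one_iff _).2 ((hiter n).1 l hl)
      rw [h2, map_mul, map_zpow, ih, h3, mul_one, ← zpow_mul, pow_succ]
  have hfix : q ^ (m ^ p ^ a : ℤ) = q ^ (1 : ℤ) := by
    rw [← key, zpow_one]
    exact congrArg π (Subtype.ext (by simp [hc]))
  have hord : orderOf q = p :=
    (hp.out.eq_one_or_self_of_dvd _ (hQ ▸ orderOf_dvd_natCard q)).resolve_left
      fun e => hq1 (orderOf_eq_one_iff.1 e)
  rw [zpow_eq_zpow_iff_modEq, hord, ← ZMod.intCast_eq_intCast_iff] at hfix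
  push_cast at hfix
  rw [ZMod.pow_card_pow] at hfix
  have hq2 : π ⟨c x, hK x hx⟩ = q := by
    rw [← hm]
    show q ^ m = q
    nth_rewrite 2 [← zpow_one q]
    rw [zpow_eq_zpow_iff_modEq, hord, ← ZMod.intCast_eq_intCast_iff]
    push_cast
    exact hfix
  exact (QuotientGroup.eq (s := L.subgroupOf K) (a := ⟨x, hx⟩) (b := ⟨c x, hK x hx⟩)).1 hq2.symm

variable {Ω : Type*} [Group Ω] {S : Subgroup Ω} [Finite S] {p : ℕ} [hp : Fact p.Prime]

theorem ne_self (hS : IsPGroup p S) {F : FusionSystem S} (hF : F.IsSaturated p) {E : Subgroup Ω}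
    (hE : F.IsEssential p E) : E < S := by
  refine lt_of_le_of_ne hE.1.1 ?_
  rintro rfl
  obtain ⟨-, -, hn, Y, hY⟩ := hE
  haveI := hn
  obtain ⟨hd, -, -⟩ := spe_exists_sylow hY
  obtain ⟨R, hR⟩ := FusionBatch.autGroup_self_sylow hS hF
  exact R.not_dvd_index (hR ▸ hd)

theorem exists_norm_notMem (hS : IsPGroup p S) {F : FusionSystem S} (hF : F.IsSaturated p)
    {E : Subgroup Ω} (hE : F.IsEssential p E) : ∃ g ∈ normalizerIn S E, g ∉ E :=
  SetLike.exists_of_lt (lt_normalizerIn_of_lt hS (ne_self hS hF hE))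

/-- No invariant series with small steps. -/
theorem false_of_series (hS : IsPGroup p S) {F : FusionSystem S} (hF : F.IsSaturated p)
    {E : Subgroup Ω} (hE : F.IsEssential p E) (C : ℕ → Subgroup E) (k : ℕ) (hC0 : C 0 = ⊥)
    (hCk : C k = ⊤) (hmono : Monotone C)
    (hinv : ∀ i ≤ k, ∀ α ∈ F.autGroup E, ∀ v ∈ C i, α v ∈ C i)
    (hstep : ∀ i < k, (C i).relIndex (C (i + 1)) ∣ p) : False := by
  obtain ⟨g, hg, hgE⟩ := exists_norm_notMem hS hF hE
  haveI : Finite E := finite_of_le ‹_› hE.1.1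
  set c := E.normalizerMonoidHom ⟨g, hg.2⟩ with hc
  have hcS : c ∈ autInducedBy S E := mem_autInducedBy.2 ⟨g, hg.1, fun _ => rfl⟩
  have hcA : c ∈ F.autGroup E := autInducedBy_le_autGroup F hE.1.1 hcS
  obtain ⟨a, ha⟩ := isPGroup_autInducedBy hS E ⟨c, hcS⟩
  have ha' : c ^ p ^ a = 1 := congrArg Subtype.val ha
  refine hgE (mem_of_stabilizes hS hE.1 (FusionAlperin.isRadical_of_essential hS hE)
    (fun i => (C i).map E.subtype) k (by simp [hC0]) (fun v hv => ⟨⟨v, hv⟩, by simp [hCk], rfl⟩)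
    (fun i j hij => Subgroup.map_mono (hmono hij)) ?_ hg ?_)
  · rintro i hi α hα v ⟨w, hw, hwv⟩
    obtain rfl : w = v := Subtype.ext hwv
    exact ⟨α w, hinv i hi α hα w hw, rfl⟩
  · rintro i hi v hvE ⟨w, hw, rfl⟩
    have hn : ((C i).subgroupOf (C (i + 1))).Normal := ⟨fun u hu y =>
      hinv i hi.le _ (inn_le_autGroup F hE.1.1 ⟨(y : E), rfl⟩) _ hu⟩
    refine ⟨w⁻¹ * c w, step_fixed (hn := hn) (hmono (Nat.le_succ i))
      (hinv i hi.le _ hcA) (hinv (i + 1) hi _ hcA) (hstep i hi) ha' w hw, rfl⟩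

/-- A series of length three. -/
theorem false_of_two (hS : IsPGroup p S) {F : FusionSystem S} (hF : F.IsSaturated p)
    {E : Subgroup Ω} (hE : F.IsEssential p E) (D D' : Subgroup E) (hDD : D' ≤ D)
    (hD : ∀ α ∈ F.autGroup E, ∀ v ∈ D, α v ∈ D) (hD' : ∀ α ∈ F.autGroup E, ∀ v ∈ D', α v ∈ D')
    (h1 : Nat.card D' ∣ p) (h2 : D'.relIndex D ∣ p) (h3 : D.index ∣ p) : False := by
  refine false_of_series hS hF hE (fun i => if i = 0 then ⊥ else if i = 1 then D' else
    if i = 2 then D else ⊤) 3 rfl rfl ?_ ?_ ?_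
  · refine monotone_nat_of_le_succ fun i => ?_
    rcases i with _ | _ | _ | i <;> simp [hDD]
  · intro i hi α hα v hv
    rcases i with _ | _ | _ | i
    · simp at hv; simp [hv]
    · simpa using hD' α hα v (by simpa using hv)
    · simpa using hD α hα v (by simpa using hv)
    · simp
  · intro i hi
    rcases i with _ | _ | _ | i
    · simpa [Subgroup.relIndex_bot_left] using h1
    · simpa using h2
    · simpa [Subgroup.relIndex_top_right] using h3
    · omega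

end Cfsg.Agent.H73.SmallEssential
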