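import Mathlib
import Cfsg.Agent.H73.SmallEssential.Series
import Cfsg.Agent.PGroup.Extraspecial
import Cfsg.Agent.TwoGroups.Recognition

/-! Essential subgroups of order `p ^ 2` and `p ^ 3`. -/

set_option autoImplicit false
set_option linter.style.haveILetI false

open Cfsg Cfsg.FusionSystem Cfsg.Agent.FusionSys

namespace Cfsg.Agent.H73.SmallEssential

variable {Ω : Type*} [Group Ω] {S : Subgroup Ω} [Finite S] {p : ℕ} [hp : Fact p.Prime]

theorem map_range_mem {X : Type*} [Group X] (f : X →* X) (α : MulAut X)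
    (h : ∀ v, α (f v) = f (α v)) : ∀ v ∈ f.range, α v ∈ f.range := by
  rintro _ ⟨v, rfl⟩
  exact ⟨α v, (h v).symm⟩

theorem map_ker_mem {X : Type*} [Group X] (f : X →* X) (α : MulAut X)
    (h : ∀ v, α (f v) = f (α v)) : ∀ v ∈ f.ker, α v ∈ f.ker := by
  intro v hv
  rw [MonoidHom.mem_ker] at hv ⊢
  rw [← h, hv, map_one]

/-- A fixed-point free power map has nontrivial kernel in the image. -/
theorem abelian_cube_exp (hS : IsPGroup p S) {F : FusionSystem S} (hF : F.IsSaturated p)
    {E : Subgroup Ω} (hE : F.IsEssential p E) (hab : ∀ a b : E, a * b = b * a)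
    (hcard : Nat.card E = p ^ 2 ∨ Nat.card E = p ^ 3) : ∀ a : E, a ^ p = 1 := by
  haveI : Finite E := finite_of_le ‹_› hE.1.1
  have hEp : IsPGroup p E := hS.to_le hE.1.1
  let f : E →* E := MonoidHom.mk' (fun a => a ^ p) fun a b => Commute.mul_pow (hab a b) p
  have hfα : ∀ α : MulAut E, ∀ v, α (f v) = f (α v) := fun α v => map_pow α v p
  by_contra hexp
  obtain ⟨k, hk⟩ := IsPGroup.iff_card.1 (hEp.to_subgroup f.range)
  have hk0 : k ≠ 0 := by
    rintro rfl
    have h1 : f.range = ⊥ := Subgroup.eq_bot_of_card_le _ (by rw [hk, pow_zero])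
    exact hexp fun a => Subgroup.mem_bot.1 (h1.le ⟨a, rfl⟩)
  -- the image is a proper subgroup
  have hker : f.ker ≠ ⊥ := by
    intro h
    haveI : Nontrivial E := Finite.one_lt_card_iff_nontrivial.1 (by
      rcases hcard with h | h <;> rw [h] <;> exact Nat.one_lt_pow (by norm_num) hp.out.one_lt)
    obtain ⟨a, ha⟩ := exists_prime_orderOf_dvd_card' (G := E) p (by
      rcases hcard with h | h <;> rw [h] <;> exact dvd_pow_self p (by norm_num))
    have h1 : a ∈ f.ker := by
      show a ^ p = 1
      rw [← ha]; exact pow_orderOf_eq_one a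
    rw [h, Subgroup.mem_bot] at h1
    rw [h1, orderOf_one] at ha
    exact hp.out.ne_one ha.symm
  obtain ⟨j, hj⟩ := IsPGroup.iff_card.1 (hEp.to_subgroup f.ker)
  have hj0 : j ≠ 0 := by
    rintro rfl
    exact hker (Subgroup.eq_bot_of_card_le _ (by rw [hj, pow_zero]))
  have hmul := f.ker.card_mul_index
  rw [Subgroup.index_ker, hj, hk, ← pow_add] at hmul
  have hindk : f.ker.index = p ^ k := (Subgroup.index_ker f).trans hk
  by_cases hj1 : j = 1
  · -- cyclic kernel: it is contained in the image
    have hle : f.ker ≤ f.range := by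
      haveI : Nontrivial f.range := Finite.one_lt_card_iff_nontrivial.1
        (hk ▸ Nat.one_lt_pow hk0 hp.out.one_lt)
      obtain ⟨a, ha⟩ := exists_prime_orderOf_dvd_card' (G := f.range) p (hk ▸ dvd_pow_self p hk0)
      have h1 : (a : E) ∈ f.ker := by
        show (a : E) ^ p = 1
        rw [← ha, ← SubmonoidClass.coe_pow, pow_orderOf_eq_one, OneMemClass.coe_one]
      have h2 : Subgroup.zpowers (a : E) = f.ker := by
        refine Subgroup.eq_of_le_of_card_ge (Subgroup.zpowers_le.2 h1) ?_
        rw [Nat.card_zpowers, Subgroup.orderOf_coe, ha, hj, hj1, pow_one]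
      rw [← h2, Subgroup.zpowers_le]
      exact a.2
    have hidx : f.range.index = p := by
      have h1 := f.range.card_mul_index
      rw [hk, ← f.ker.card_mul_index, hj, hindk, hj1, pow_one, mul_comm p] at h1
      exact Nat.eq_of_mul_eq_mul_left (Nat.pow_pos hp.out.pos) h1
    refine false_of_two hS hF hE f.range f.ker hle (fun α _ => map_range_mem f α (hfα α))
      (fun α _ => map_ker_mem f α (hfα α)) ?_ ?_ hidx.dvd
    · rw [hj, hj1, pow_one]
    · have h1 := Subgroup.relIndex_mul_index hle
      rw [hidx, hindk] at h1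
      have hk2 : k ≤ 2 := by
        rcases hcard with h | h <;> rw [h] at hmul <;>
          have := Nat.pow_right_injective hp.out.two_le hmul <;> omega
      refine (Nat.dvd_of_mul_dvd_mul_right hp.out.pos ?_)
      rw [h1, ← pow_two]
      exact Nat.pow_dvd_pow p hk2
  · -- image of order `p`
    have hk1 : k = 1 ∧ j = 2 := by
      rcases hcard with h | h <;> rw [h] at hmul <;>
        have := Nat.pow_right_injective hp.out.two_le hmul <;> omega
    have hle : f.range ≤ f.ker := by
      rintro _ ⟨a, rfl⟩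
      show (f a) ^ p = 1
      have := pow_card_eq_one' (G := f.range) (x := ⟨f a, a, rfl⟩)
      rw [hk, hk1.1, pow_one] at this
      exact congrArg Subtype.val this
    refine false_of_two hS hF hE f.ker f.range hle (fun α _ => map_ker_mem f α (hfα α))
      (fun α _ => map_range_mem f α (hfα α)) ?_ ?_ ?_
    · rw [hk, hk1.1, pow_one]
    · have h1 := Subgroup.card_eq_card_quotient_mul_card_subgroup (f.range.subgroupOf f.ker)
      rw [hj, hk1.2, Nat.card_congr (Subgroup.subgroupOfEquivOfLe hle).toEquiv, hk, hk1.1,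
        pow_one, pow_two] at h1
      exact (Nat.eq_of_mul_eq_mul_right hp.out.pos h1).symm.dvd
    · rw [hindk, hk1.1, pow_one]

/-- A nonabelian essential subgroup of order `p ^ 3`. -/
theorem nonabelian_cube (hS : IsPGroup p S) {F : FusionSystem S} (hF : F.IsSaturated p)
    {E : Subgroup Ω} (hE : F.IsEssential p E) (hna : ¬ IsMulCommutative E)
    (hcard : Nat.card E = p ^ 3) :
    (Odd p ∧ Cfsg.IsExtraspecial p E ∧ ∀ a : E, a ^ p = 1) ∨
      (p = 2 ∧ Nonempty (E ≃* QuaternionGroup 2)) := by
  classical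
  haveI : Finite E := finite_of_le ‹_› hE.1.1
  have hEp : IsPGroup p E := hS.to_le hE.1.1
  haveI : Nontrivial E :=
    Finite.one_lt_card_iff_nontrivial.1 (hcard ▸ Nat.one_lt_pow (by norm_num) hp.out.one_lt)
  haveI := hEp.center_nontrivial
  set Z := Subgroup.center E with hZd
  have hcyc : ¬ IsCyclic (E ⧸ Z) := fun hc => hna ⟨⟨commutative_of_cyclic_center_quotient
    (QuotientGroup.mk' Z) (QuotientGroup.ker_mk' _).le⟩⟩
  obtain ⟨i, hi⟩ := IsPGroup.iff_card.1 (hEp.to_subgroup Z)
  obtain ⟨k, hk⟩ := IsPGroup.iff_card.1 (hEp.to_quotient Z)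
  have hsum : k + i = 3 := by
    have h1 := Subgroup.card_eq_card_quotient_mul_card_subgroup Z
    rw [hcard, hi, hk, ← pow_add] at h1
    exact (Nat.pow_right_injective hp.out.two_le h1).symm
  have hi0 : i ≠ 0 := by
    rintro rfl
    have := Finite.one_lt_card (α := Z)
    rw [hi, pow_zero] at this
    omega
  have hk2 : 2 ≤ k := by
    by_contra hlt
    refine hcyc ?_
    rcases (by omega : k = 0 ∨ k = 1) with rfl | rfl
    · haveI := (Nat.card_eq_one_iff_unique.1 (hk.trans (pow_zero p))).1
      infer_instance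
    · exact isCyclic_of_prime_card (p := p) (hk.trans (pow_one p))
  have hZc : Nat.card Z = p := by rw [hi, show i = 1 by omega, pow_one]
  have hQ : Nat.card (E ⧸ Z) = p ^ 2 := by rw [hk, show k = 2 by omega]
  have hidxZ : Z.index = p ^ 2 := (Subgroup.index_eq_card Z).trans hQ
  have hpowZ : ∀ a : E, a ^ p ∈ Z := by
    intro a
    refine (QuotientGroup.eq_one_iff _).1 ?_
    show QuotientGroup.mk' Z (a ^ p) = 1
    rw [map_pow]
    obtain ⟨e, he⟩ := (Nat.dvd_prime_pow hp.out).1 (hQ ▸ orderOf_dvd_natCard (QuotientGroup.mk' Z a))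
    refine orderOf_dvd_iff_pow_eq_one.1 ?_
    rw [he.2]
    rcases (by omega : e ≤ 1 ∨ e = 2) with h | rfl
    · exact (Nat.pow_dvd_pow p h).trans (pow_one p).dvd
    · exact absurd (isCyclic_of_orderOf_eq_card (QuotientGroup.mk' Z a) (he.2.trans hQ.symm)) hcyc
  have hcomm : commutator E ≤ Z := Subgroup.Normal.quotient_commutative_iff_commutator_le.1
    ⟨⟨IsPGroup.commutative_of_card_eq_prime_sq hQ⟩⟩
  have hes : Cfsg.IsExtraspecial p E := PGroup.isExtraspecial_of_center hEp hZc hna hcomm hpowZ
  have hZinv : ∀ α ∈ F.autGroup E, ∀ v ∈ Z, (α : MulAut E) v ∈ Z := fun α _ v hv =>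
    (Subgroup.characteristic_iff_map_eq.1 inferInstance α : Z.map α.toMonoidHom = Z).le ⟨v, hv, rfl⟩
  have hrel : ∀ D : Subgroup E, Z ≤ D → D.index = p → Z.relIndex D ∣ p := fun D hle hD => by
    have h1 := Subgroup.relIndex_mul_index hle
    rw [hD, hidxZ, pow_two] at h1
    exact (Nat.eq_of_mul_eq_mul_right hp.out.pos h1).dvd
  rcases hp.out.eq_two_or_odd' with rfl | hodd
  · refine Or.inr ⟨rfl, ?_⟩
    obtain ⟨a, ha⟩ : ∃ a : E, a ^ 2 ≠ 1 := by
      by_contra! h
      refine hna ⟨⟨fun u v => ?_⟩⟩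
      have h1 : ∀ w : E, w⁻¹ = w := fun w => inv_eq_of_mul_eq_one_right ((pow_two w).symm.trans (h w))
      calc u * v = (u * v)⁻¹ := (h1 _).symm
        _ = v * u := by rw [mul_inv_rev, h1, h1]
    have hord : ∀ w : E, w ^ 2 ≠ 1 → orderOf w = 4 := by
      intro w hw
      have h4 : w ^ 4 = 1 := by
        have h1 := pow_card_eq_one' (G := Z) (x := ⟨_, hpowZ w⟩)
        rw [hZc] at h1
        rw [show (4 : ℕ) = 2 * 2 from rfl, pow_mul]
        exact congrArg Subtype.val h1
      exact orderOf_eq_prime_pow (p := 2) (n := 1) (by simpa using hw) (by simpa using h4)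
    set A := Subgroup.zpowers a with hA
    have hAc : Nat.card A = 4 := by rw [Nat.card_zpowers, hord a ha]
    have hAi : A.index = 2 := by
      have h1 := A.card_mul_index
      rw [hAc, hcard] at h1
      omega
    have hZA : Z ≤ A := by
      have h1 : Subgroup.zpowers (a ^ 2) = Z := by
        refine Subgroup.eq_of_le_of_card_ge (Subgroup.zpowers_le.2 (hpowZ a)) ?_
        rw [hZc, Nat.card_zpowers, orderOf_pow, hord a ha]
        norm_num
      rw [← h1, Subgroup.zpowers_le]
      exact Subgroup.pow_mem _ (Subgroup.mem_zpowers a) 2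
    by_cases hall : ∀ w : E, w ^ 2 ≠ 1 → w ∈ A
    · refine (false_of_two hS hF hE A Z hZA (fun α _ v hv => ?_) hZinv hZc.dvd (hrel A hZA hAi)
        hAi.dvd).elim
      obtain ⟨m, rfl⟩ := hv
      show α (a ^ m) ∈ A
      rw [map_zpow]
      refine A.zpow_mem (hall _ fun h => ha (α.injective ?_)) m
      rw [map_pow, h, map_one]
    · push Not at hall
      obtain ⟨b, hb, hbA⟩ := hall
      refine TwoGroups.equiv_quaternion_of_generators (n := 2) (a := a) (b := b)
        (hord a ha) (by rw [hcard]; norm_num) hbA ?_ ?_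
      · haveI : Fact (Nat.card Z).Prime := ⟨hZc.symm ▸ Nat.prime_two⟩
        obtain ⟨z, hz, huniq⟩ : ∃ z : Z, z ≠ 1 ∧ ∀ u : Z, u ≠ 1 → u = z := by
          obtain ⟨z, hz⟩ := exists_ne (1 : Z)
          refine ⟨z, hz, fun u hu => ?_⟩
          have h2 := Nat.card_eq_two_iff' (1 : Z) |>.1 hZc
          exact h2.unique hu hz
        rw [← pow_two]
        exact congrArg Subtype.val ((huniq ⟨_, hpowZ b⟩ fun e => hb (congrArg Subtype.val e)).trans
          (huniq ⟨_, hpowZ a⟩ fun e => ha (congrArg Subtype.val e)).symm)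
      · haveI : A.Normal := Subgroup.normal_of_index_eq_two hAi
        obtain ⟨m, hm⟩ := Subgroup.Normal.conj_mem ‹A.Normal› a (Subgroup.mem_zpowers a) b
        have hm' : a ^ m = b * a * b⁻¹ := hm
        have hm4 : orderOf (a ^ m) = 4 := by
          rw [hm', show b * a * b⁻¹ = MulAut.conj b a from rfl, MulEquiv.orderOf_eq, hord a ha]
        have hne : ¬ (m : ℤ) % 4 = 1 := by
          intro h
          have h1 : a ^ m = a := by
            rw [← zpow_mod_orderOf, hord a ha, Nat.cast_ofNat, h, zpow_one]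
          have hcom : Commute b a := by
            rw [hm'] at h1
            exact mul_inv_eq_iff_eq_mul.1 h1
          refine hna ⟨⟨fun u v => ?_⟩⟩
          have hgen : ∀ w : E, ∃ i : ℤ, ∃ ε : ℤ, w = a ^ i * b ^ ε := by
            intro w
            by_cases hw : w ∈ A
            · obtain ⟨i, rfl⟩ := hw
              exact ⟨i, 0, by simp⟩
            · have h3 : w * b⁻¹ ∈ A :=
                (Subgroup.mul_mem_iff_of_index_two hAi).2 (by simp [hw, hbA])
              obtain ⟨i, hi⟩ := h3
              exact ⟨i, 1, by rw [zpow_one, show a ^ i = w * b⁻¹ from hi, inv_mul_cancel_right]⟩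
          obtain ⟨i, ε, rfl⟩ := hgen u
          obtain ⟨i', ε', rfl⟩ := hgen v
          exact (((Commute.refl a).zpow_zpow i i').mul_right
            (hcom.symm.zpow_zpow i ε')).mul_left
            ((hcom.zpow_zpow ε i').mul_right ((Commute.refl b).zpow_zpow ε ε'))
        have h3 : m % 4 = 3 := by
          have hodd : ¬ (2 : ℤ) ∣ m := by
            rintro ⟨t, rfl⟩
            have h1 : (a ^ (2 * t)) ^ 2 = 1 := by
              rw [← zpow_natCast, ← zpow_mul, show 2 * t * ((2 : ℕ) : ℤ) = ((4 : ℕ) : ℤ) * t by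
                push_cast; ring, zpow_mul, zpow_natCast, ← hord a ha, pow_orderOf_eq_one, one_zpow]
            have := orderOf_dvd_of_pow_eq_one h1
            rw [hm4] at this
            norm_num at this
          omega
        rw [← hm', ← zpow_mod_orderOf, hord a ha, Nat.cast_ofNat, h3, ← zpow_neg_one,
          zpow_eq_zpow_iff_modEq, hord a ha]
        decide
  · refine Or.inl ⟨hodd, hes, ?_⟩
    have hp2 : p ≠ 2 := by rintro rfl; exact absurd hodd (by decide)
    by_contra hexp
    let f : E →* E := MonoidHom.mk' (fun a => a ^ p) (PGroup.extraspecial_mul_pow hes hp2)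
    have hR : Nat.card f.range = p := by
      have h1 : f.range ≤ Z := by rintro _ ⟨a, rfl⟩; exact hpowZ a
      have h2 := Subgroup.card_dvd_of_le h1
      rw [hZc] at h2
      refine (hp.out.eq_one_or_self_of_dvd _ h2).resolve_left fun h => hexp fun a => ?_
      exact Subgroup.mem_bot.1 ((Subgroup.card_eq_one.1 h).le ⟨a, rfl⟩)
    have hZD : Z ≤ f.ker := fun z hz => by
      show z ^ p = 1
      have h1 := pow_card_eq_one' (G := Z) (x := ⟨z, hz⟩)
      rw [hZc] at h1
      exact congrArg Subtype.val h1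
    have hDi : f.ker.index = p := (Subgroup.index_ker f).trans hR
    exact false_of_two hS hF hE f.ker Z hZD
      (fun α _ => map_ker_mem f α fun v => map_pow α v p) hZinv hZc.dvd (hrel _ hZD hDi) hDi.dvd

end Cfsg.Agent.H73.SmallEssential
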