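import Mathlib
import Cfsg.Agent.H73.SmallEssential.Series
import Cfsg.Agent.H73.Resistant.Basic

/-! Abelian essential subgroups of rank two. -/

set_option autoImplicit false
set_option linter.style.haveILetI false
set_option linter.unusedSectionVars false

open Cfsg Cfsg.FusionSystem Cfsg.Agent.FusionSys

namespace Cfsg.Agent.H73.SmallEssential

section Endo

variable {p : ℕ} [hp : Fact p.Prime] {A : Type*} [AddCommGroup A]

/-- Endomorphism form: a unipotent automorphism of exponent `p` is trivial modulo `p`. -/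
theorem endo_trivial (h5 : 5 ≤ p) (hΩ : ∀ a : A, p • a = 0 → ∃ b : A, p • b = a)
    (N : AddMonoid.End A) (hN : (1 + N) ^ p = 1) (hN2 : ∀ a, ∃ b, p • b = N (N a)) :
    ∀ a, ∃ b, p • b = N a := by
  intro a
  have hstep : ∀ m : ℕ, ∀ y : A, (∃ z, p • z = y) → ∃ z, p • z = (N ^ m) y := by
    rintro m _ ⟨z, rfl⟩
    exact ⟨(N ^ m) z, (map_nsmul _ _ _).symm⟩
  have h2 : ∀ i, 2 ≤ i → ∀ x, ∃ z, p • z = (N ^ i) x := by
    intro i hi x
    obtain ⟨m, rfl⟩ : ∃ m, i = m + 2 := ⟨i - 2, by omega⟩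
    rw [pow_add, AddMonoid.End.coe_mul, Function.comp_apply, pow_two, AddMonoid.End.coe_mul,
      Function.comp_apply]
    exact hstep m _ (hN2 x)
  have h4 : ∀ i, 4 ≤ i → ∀ x, ∃ z, p • p • z = (N ^ i) x := by
    intro i hi x
    obtain ⟨m, rfl⟩ : ∃ m, i = 2 + (m + 2) := ⟨i - 4, by omega⟩
    rw [pow_add, AddMonoid.End.coe_mul, Function.comp_apply]
    obtain ⟨u, hu⟩ := h2 (m + 2) (by omega) x
    obtain ⟨v, hv⟩ := h2 2 le_rfl u
    exact ⟨v, by rw [hv, ← map_nsmul, hu]⟩
  set S : AddSubgroup A := (nsmulAddMonoidHom (p * p) : A →+ A).range with hS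
  have hmem : ∀ z : A, p • p • z ∈ S := fun z => ⟨z, mul_smul p p z⟩
  have hexp : ((1 + N) ^ p) a = ∑ m ∈ Finset.range (p + 1), (p.choose m) • (N ^ m) a := by
    rw [add_comm 1 N, (Commute.one_right N).add_pow p]
    refine (AddMonoidHom.finsetSum_apply _ _ _).trans (Finset.sum_congr rfl fun m _ => ?_)
    rw [one_pow, mul_one, ← Nat.cast_comm, ← nsmul_eq_mul]
    rfl
  rw [hN] at hexp
  have hrest : ∑ m ∈ Finset.range (p + 1), (p.choose m) • (N ^ m) a - a - p • N a ∈ S := by
    obtain ⟨q, hq⟩ : ∃ q, p + 1 = q + 2 := ⟨p - 1, by omega⟩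
    rw [hq, Finset.sum_range_succ', Finset.sum_range_succ']
    simp only [Nat.choose_zero_right, one_smul, zero_add, Nat.choose_one_right, pow_one]
    rw [pow_zero, show (1 : AddMonoid.End A) a = a from rfl, add_sub_cancel_right, add_sub_cancel_right]
    refine S.sum_mem fun m hm => ?_
    rw [Finset.mem_range] at hm
    rcases eq_or_ne (m + 1 + 1) p with h | h
    · rw [h, Nat.choose_self, one_smul]
      obtain ⟨z, hz⟩ := h4 p (by omega) a
      rw [← hz]
      exact hmem z
    · obtain ⟨e, he⟩ := hp.out.dvd_choose_self (show m + 1 + 1 ≠ 0 by omega) (show m + 1 + 1 < p by omega)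
      obtain ⟨z, hz⟩ := h2 (m + 1 + 1) (by omega) a
      rw [he, mul_smul, ← hz, smul_comm e p]
      exact hmem _
  rw [← hexp, show (1 : AddMonoid.End A) a = a from rfl, sub_self, zero_sub, neg_mem_iff] at hrest
  obtain ⟨z, hz⟩ := hrest
  have h1 : p • (N a - p • z) = 0 := by
    rw [smul_sub, ← mul_smul, show (p * p) • z = p • N a from hz, sub_self]
  obtain ⟨b, hb⟩ := hΩ _ h1
  exact ⟨b + z, by rw [smul_add, hb, sub_add_cancel]⟩

/-- A nilpotent endomorphism of a plane squares to zero: group form. -/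
theorem endo_sq (N : AddMonoid.End A) (hN : (1 + N) ^ p = 1) (htop : ∃ a : A, ∀ b, p • b ≠ a) :
    ∃ a : A, ∀ b c, N b + p • c ≠ a := by
  by_contra! h
  have hk : ∀ k : ℕ, ∀ x : A, ∃ b c, (N ^ k) b + p • c = x := by
    intro k
    induction k with
    | zero => exact fun x => ⟨x, 0, by simp⟩
    | succ k ih =>
      intro x
      obtain ⟨b, c, hbc⟩ := ih x
      obtain ⟨b', c', hb'⟩ := h b
      refine ⟨b', (N ^ k) c' + c, ?_⟩
      rw [smul_add, ← map_nsmul, ← add_assoc, pow_succ, AddMonoid.End.coe_mul,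
        Function.comp_apply, ← map_add, hb', hbc]
  obtain ⟨r, hr⟩ := (Commute.one_left N).exists_add_pow_prime_eq hp.out
  rw [one_pow, mul_one, hN] at hr
  have hNp : N ^ p = -((p : AddMonoid.End A) * N * r) := by
    have h' : (1 : AddMonoid.End A) + 0 = 1 + (N ^ p + (p : AddMonoid.End A) * N * r) := by
      rw [add_zero, ← add_assoc]
      exact hr
    exact eq_neg_of_add_eq_zero_left (add_left_cancel h').symm
  obtain ⟨a, ha⟩ := htop
  obtain ⟨b, c, hbc⟩ := hk p a
  refine ha (-(N (r b)) + c) ?_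
  rw [← hbc, hNp, smul_add, smul_neg, mul_assoc, ← nsmul_eq_mul]
  rfl

end Endo

variable {Ω : Type*} [Group Ω] {S : Subgroup Ω} [Finite S] {p : ℕ} [hp : Fact p.Prime]

theorem exists_norm_order (hS : IsPGroup p S) {F : FusionSystem S} (hF : F.IsSaturated p)
    {E : Subgroup Ω} (hE : F.IsEssential p E) (hab : ∀ a b : E, a * b = b * a) :
    ∃ g, ∃ hg : g ∈ normalizerIn S E, g ∉ E ∧ E.normalizerMonoidHom ⟨g, hg.2⟩ ^ p = 1 := by
  obtain ⟨g, hg, hgE⟩ := exists_norm_notMem hS hF hE
  set c := E.normalizerMonoidHom ⟨g, hg.2⟩ with hc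
  have hcS : c ∈ autInducedBy S E := mem_autInducedBy.2 ⟨g, hg.1, fun _ => rfl⟩
  have hInn : ∀ {γ : MulAut E}, γ ∈ Inn E → γ = 1 := by
    rintro _ ⟨e, rfl⟩
    exact MulEquiv.ext fun v => by rw [MulAut.conj_apply, hab, inv_mul_cancel_left]; rfl
  obtain ⟨a, ha⟩ := IsPGroup.iff_orderOf.1 (isPGroup_autInducedBy hS E) ⟨c, hcS⟩
  rw [← Subgroup.orderOf_coe] at ha
  rcases a with _ | a
  · rw [pow_zero, orderOf_eq_one_iff] at ha
    exact absurd ((FusionAlperin.autInducedBy_mem_inn_iff hE.1 hg).1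
      (by rw [show E.normalizerMonoidHom ⟨g, hg.2⟩ = 1 from ha]; exact Subgroup.one_mem _)) hgE
  · have hg' : g ^ p ^ a ∈ normalizerIn S E := Subgroup.pow_mem _ hg _
    have hpow : E.normalizerMonoidHom ⟨g ^ p ^ a, hg'.2⟩ = c ^ p ^ a := by
      rw [hc, ← map_pow]; rfl
    refine ⟨_, hg', fun h => ?_, ?_⟩
    · have h2 := hInn ((FusionAlperin.autInducedBy_mem_inn_iff hE.1 hg').2 h)
      rw [hpow] at h2
      have h3 := orderOf_dvd_of_pow_eq_one h2
      rw [show orderOf c = p ^ (a + 1) from ha] at h3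
      have := (Nat.pow_dvd_pow_iff_le_right hp.out.one_lt).1 h3
      omega
    · rw [hpow, ← pow_mul, ← pow_succ, ← (ha : orderOf c = p ^ (a + 1)), pow_orderOf_eq_one]

/-- The power endomorphism. -/
def powEndo {E : Type*} [Group E] (hab : ∀ a b : E, a * b = b * a) (n : ℕ) : E →* E :=
  MonoidHom.mk' (fun a => a ^ n) fun a b => Commute.mul_pow (hab a b) n

theorem exists_closure_pair {E : Type*} [Group E] [Finite E] {p : ℕ} [Fact p.Prime]
    (hE : IsPGroup p E) (h : (frattini E).index ≤ p ^ 2) :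
    ∃ a b : E, Subgroup.closure ({a, b} : Set E) = ⊤ := by
  by_cases htop : frattini E = ⊤
  · refine ⟨1, 1, PGroup.eq_top_of_sup_frattini (by rw [htop, sup_top_eq])⟩
  obtain ⟨a, ha⟩ : ∃ a, a ∉ frattini E := by
    by_contra! h'
    exact htop (eq_top_iff.2 fun x _ => h' x)
  set M := frattini E ⊔ Subgroup.zpowers a with hM
  obtain ⟨b, hb⟩ : ∃ b, b ∈ (⊤ : Subgroup E) ∧ (M = ⊤ ∨ b ∉ M) := by
    by_cases hMt : M = ⊤
    · exact ⟨1, trivial, Or.inl hMt⟩
    · obtain ⟨b, hb⟩ : ∃ b, b ∉ M := by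
        by_contra! h'
        exact hMt (eq_top_iff.2 fun x _ => h' x)
      exact ⟨b, trivial, Or.inr hb⟩
  refine ⟨a, b, PGroup.eq_top_of_sup_frattini ?_⟩
  rw [sup_comm, ← Subgroup.index_eq_one]
  set T := frattini E ⊔ Subgroup.closure ({a, b} : Set E) with hT
  have hMT : M ≤ T := sup_le le_sup_left (le_sup_of_le_right
    (Subgroup.zpowers_le.2 (Subgroup.subset_closure (Set.mem_insert a _))))
  rcases hb.2 with h' | h'
  · rw [Subgroup.index_eq_one]; exact top_le_iff.1 (h' ▸ hMT)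
  obtain ⟨i, hi⟩ := hE.index T
  obtain ⟨j, hj⟩ := hE.index M
  obtain ⟨k, hk⟩ := hE.index (frattini E)
  have h1 : j < k := by
    have hlt : frattini E < M := lt_of_le_of_ne le_sup_left fun e =>
      ha (e.symm ▸ (Subgroup.mem_sup_right (Subgroup.mem_zpowers a) : a ∈ M))
    have := Subgroup.index_strictAnti hlt
    rw [hj, hk] at this
    exact (Nat.pow_lt_pow_iff_right (Fact.out : p.Prime).one_lt).1 this
  have h2 : i < j := by
    have hlt : M < T := lt_of_le_of_ne hMT fun e =>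
      h' (e.symm ▸ (Subgroup.mem_sup_right
        (Subgroup.subset_closure (Set.mem_insert_of_mem a (Set.mem_singleton b))) : b ∈ T))
    have := Subgroup.index_strictAnti hlt
    rw [hj, hi] at this
    exact (Nat.pow_lt_pow_iff_right (Fact.out : p.Prime).one_lt).1 this
  rw [hk, Nat.pow_le_pow_iff_right (Fact.out : p.Prime).one_lt] at h
  rw [hi, show i = 0 by omega, pow_zero]

theorem equiv_zmod_sq {E : Type*} [Group E] [Finite E] (q : ℕ) [NeZero q]
    (hab : ∀ a b : E, a * b = b * a) (hexp : ∀ x : E, x ^ q = 1) (hcard : Nat.card E = q * q)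
    {a b : E} (hgen : Subgroup.closure ({a, b} : Set E) = ⊤) :
    Nonempty (E ≃* Multiplicative (ZMod q × ZMod q)) := by
  letI : CommGroup E := { (inferInstance : Group E) with mul_comm := hab }
  let toHom : E → (ZMod q →+ Additive E) := fun a => ZMod.lift q
    ⟨zmultiplesHom (Additive E) (Additive.ofMul a), by
      rw [zmultiplesHom_apply, natCast_zsmul]
      exact congrArg Additive.ofMul (hexp a)⟩
  let f : ZMod q × ZMod q →+ Additive E := (toHom a).coprod (toHom b)
  have hone : ∀ u : E, toHom u ((1 : ℤ) : ZMod q) = Additive.ofMul u := fun u => by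
    rw [ZMod.lift_coe]; simp
  have hsurj : Function.Surjective f := by
    intro v
    have h1 : Additive.toMul v ∈ Subgroup.closure ({a, b} : Set E) := hgen ▸ Subgroup.mem_top _
    suffices ∀ w ∈ Subgroup.closure ({a, b} : Set E), ∃ z, f z = Additive.ofMul w from
      this _ h1
    intro w hw
    induction hw using Subgroup.closure_induction with
    | mem w hw =>
      rcases hw with rfl | rfl
      · exact ⟨(((1 : ℤ) : ZMod q), 0), by simp [f, AddMonoidHom.coprod_apply]; simpa using hone w⟩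
      · exact ⟨(0, ((1 : ℤ) : ZMod q)), by simp [f, AddMonoidHom.coprod_apply]; simpa using hone w⟩
    | one => exact ⟨0, map_zero f⟩
    | mul u v _ _ hu hv =>
      obtain ⟨z, hz⟩ := hu; obtain ⟨z', hz'⟩ := hv
      exact ⟨z + z', by rw [map_add, hz, hz']; rfl⟩
    | inv u _ hu =>
      obtain ⟨z, hz⟩ := hu
      exact ⟨-z, by rw [map_neg, hz]; rfl⟩
  have hbij : Function.Bijective f := by
    refine (Nat.bijective_iff_surjective_and_card f).2 ⟨hsurj, ?_⟩
    rw [Nat.card_prod, Nat.card_zmod, Nat.card_congr Additive.toMul, hcard]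
  exact ⟨((AddEquiv.ofBijective f hbij).toMultiplicativeLeft).symm⟩

/-- An abelian essential subgroup of rank at most two. -/
theorem abelian_rank_two (hS : IsPGroup p S) {F : FusionSystem S} (hF : F.IsSaturated p)
    {E : Subgroup Ω} (hE : F.IsEssential p E) (hab : ∀ a b : E, a * b = b * a)
    (hrk : (frattini E).index ≤ p ^ 2) :
    ∃ e : ℕ, 1 ≤ e ∧ Nat.card E = p ^ (2 * e) ∧ (∀ x : E, x ^ p ^ e = 1) ∧
      (5 ≤ p → e = 1) ∧ Nonempty (E ≃* Multiplicative (ZMod (p ^ e) × ZMod (p ^ e))) := by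
  classical
  haveI : Finite E := finite_of_le ‹_› hE.1.1
  have hEp : IsPGroup p E := hS.to_le hE.1.1
  have hno := FusionAlperin.noOuterPNormal_of_essential (p := p) hE
  set f : ℕ → (E →* E) := fun i => powEndo hab (p ^ i) with hf
  have hfα : ∀ i, ∀ α : MulAut E, ∀ v, α (f i v) = f i (α v) := fun i α v => map_pow α v _
  have hmapk : ∀ i, ∀ α : MulAut E, (f i).ker.map α.toMonoidHom = (f i).ker := fun i α =>
    Resistant.map_eq_of_forall_mem fun v hv => by
      rw [MonoidHom.mem_ker] at hv ⊢; rw [← hfα, hv, map_one]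
  set Φ := frattini E with hΦdef
  have hΦ : Φ = (f 1).range := by
    apply le_antisymm
    · haveI : IsMulCommutative E := ⟨⟨hab⟩⟩
      refine (PGroup.frattini_le_iff hEp).2 ⟨?_, fun x => ⟨x, by simp [hf, powEndo]⟩⟩
      rw [commutator_eq_bot_iff_center_eq_top E |>.2
        (eq_top_iff.2 fun v _ => Subgroup.mem_center_iff.2 fun u => hab u v)]
      exact bot_le
    · rintro _ ⟨x, rfl⟩
      show x ^ p ^ 1 ∈ Φ
      rw [pow_one]
      exact PGroup.pow_mem_frattini hEp x
  have hΦmap : ∀ α : MulAut E, Φ.map α.toMonoidHom = Φ := Resistant.map_frattini_eq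
  obtain ⟨k, hk⟩ := hEp.index Φ
  have hk2 : k ≤ 2 := by
    rw [hk, Nat.pow_le_pow_iff_right hp.out.one_lt] at hrk; exact hrk
  have hkill : ∀ (g : Ω) (hg : g ∈ normalizerIn S E), ∀ D : Subgroup E, Φ ≤ D →
      (∀ α : MulAut E, D.map α.toMonoidHom = D) → D.index ∣ p → Φ.relIndex D ∣ p → g ∈ E := by
    intro g hg D hΦD hDmap hD1 hD2
    set c := E.normalizerMonoidHom ⟨g, hg.2⟩ with hc
    have hcS : c ∈ autInducedBy S E := mem_autInducedBy.2 ⟨g, hg.1, fun _ => rfl⟩
    obtain ⟨a, ha⟩ := isPGroup_autInducedBy hS E ⟨c, hcS⟩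
    have ha' : c ^ p ^ a = 1 := congrArg Subtype.val ha
    have hmem : ∀ (H : Subgroup E), H.map c.toMonoidHom = H → ∀ v ∈ H, c v ∈ H :=
      fun H h v hv => h.le ⟨v, hv, rfl⟩
    haveI hDn : D.Normal := ⟨fun v hv u => by rw [hab u v, mul_inv_cancel_right]; exact hv⟩
    haveI : (D.subgroupOf ⊤).Normal := ⟨fun v hv u => hDn.conj_mem _ hv _⟩
    haveI : (Φ.subgroupOf D).Normal :=
      ⟨fun v hv u => (inferInstance : Φ.Normal).conj_mem _ hv _⟩
    refine Resistant.mem_of_stab hEp hE.1 hno hΦD le_rfl (fun α _ => hDmap α)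
      (fun α _ => hΦmap α) hg (Resistant.mem_stab.2 ⟨fun v => ?_, fun v hv => ?_⟩)
    · exact step_fixed (K := ⊤) le_top (hmem D (hDmap c)) (fun _ _ => trivial)
        (by rwa [Subgroup.relIndex_top_right]) ha' v trivial
    · exact step_fixed hΦD (hmem Φ (hΦmap c)) (hmem D (hDmap c)) hD2 ha' v hv
  obtain ⟨g₀, hg₀, hg₀E⟩ := exists_norm_notMem hS hF hE
  have hk2' : k = 2 := by
    by_contra hne
    refine hg₀E (hkill g₀ hg₀ Φ le_rfl hΦmap ?_ ?_)
    · rw [hk]
      exact (Nat.pow_dvd_pow p (show k ≤ 1 by omega)).trans (pow_one p).dvd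
    · rw [Subgroup.relIndex_self]; exact one_dvd p
  have hker1 : Nat.card (f 1).ker = p ^ 2 := by
    have h1 := (f 1).ker.card_mul_index
    have h2 := (f 1).range.card_mul_index
    rw [Subgroup.index_ker, ← h2, ← hΦ, hk, hk2', mul_comm] at h1
    exact Nat.eq_of_mul_eq_mul_left Nat.card_pos h1
  -- exponent
  obtain ⟨e, he, hmin⟩ : ∃ e, (∀ x : E, x ^ p ^ e = 1) ∧ ∀ i < e, ∃ x : E, x ^ p ^ i ≠ 1 := by
    have hex : ∃ e, ∀ x : E, x ^ p ^ e = 1 := by
      obtain ⟨m, hm⟩ := IsPGroup.iff_card.1 hEp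
      exact ⟨m, fun x => by rw [← hm]; exact pow_card_eq_one'⟩
    refine ⟨Nat.find hex, Nat.find_spec hex, fun i hi => ?_⟩
    have := Nat.find_min hex hi
    push Not at this
    exact this
  have he0 : 1 ≤ e := by
    by_contra h0
    have h1 : Subsingleton E := ⟨fun u v => by
      have hu := he u; have hv := he v
      rw [show e = 0 by omega, pow_zero, pow_one] at hu hv
      rw [hu, hv]⟩
    have h2 : Nat.card (f 1).ker ≤ 1 := by
      refine (Subgroup.card_le_card_group _).trans ?_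
      exact (Nat.card_of_subsingleton (1 : E)).le
    rw [hker1] at h2
    exact absurd h2 (Nat.one_lt_pow two_ne_zero hp.out.one_lt).not_ge
  set T := (f (e - 1)).range with hT
  have hTle : T ≤ (f 1).ker := by
    rintro _ ⟨x, rfl⟩
    show (x ^ p ^ (e - 1)) ^ p ^ 1 = 1
    rw [← pow_mul, ← pow_add, show e - 1 + 1 = e by omega, he]
  obtain ⟨t, ht⟩ := IsPGroup.iff_card.1 (hEp.to_subgroup T)
  have ht2 : t = 2 := by
    have h1 := Subgroup.card_le_of_le hTle
    rw [hker1, ht, Nat.pow_le_pow_iff_right hp.out.one_lt] at h1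
    by_contra hne
    have hidx : (f (e - 1)).ker.index ∣ p := by
      rw [Subgroup.index_ker, ht]
      exact (Nat.pow_dvd_pow p (show t ≤ 1 by omega)).trans (pow_one p).dvd
    refine hg₀E (hkill g₀ hg₀ _ ?_ (hmapk _) hidx ?_)
    · rw [hΦ]
      rintro _ ⟨x, rfl⟩
      show (x ^ p ^ 1) ^ p ^ (e - 1) = 1
      rw [← pow_mul, ← pow_add, show 1 + (e - 1) = e by omega, he]
    · rcases hp.out.eq_one_or_self_of_dvd _ hidx with h3 | h3
      · exfalso
        obtain ⟨x, hx⟩ := hmin (e - 1) (by omega)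
        exact hx ((Subgroup.index_eq_one.1 h3).ge (Subgroup.mem_top x))
      · have hle : Φ ≤ (f (e - 1)).ker := by
          rw [hΦ]
          rintro _ ⟨x, rfl⟩
          show (x ^ p ^ 1) ^ p ^ (e - 1) = 1
          rw [← pow_mul, ← pow_add, show 1 + (e - 1) = e by omega, he]
        have h4 := Subgroup.relIndex_mul_index hle
        rw [h3, hk, hk2', pow_two] at h4
        exact (Nat.eq_of_mul_eq_mul_right hp.out.pos h4).dvd
  have hTeq : T = (f 1).ker :=
    Subgroup.eq_of_le_of_card_ge hTle (by rw [hker1, ht, ht2])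
  have hcount : ∀ i ≤ e, Nat.card (f i).ker = p ^ (2 * i) := by
    intro i
    induction i with
    | zero =>
      intro _
      rw [mul_zero, pow_zero, Subgroup.card_eq_one, Subgroup.eq_bot_iff_forall]
      intro x hx
      simpa [hf, powEndo] using hx
    | succ i ih =>
      intro hi
      let φ : (f (i + 1)).ker →* E := (f i).comp (f (i + 1)).ker.subtype
      have hker : φ.ker = (f i).ker.subgroupOf (f (i + 1)).ker := by ext x; rfl
      have hle : (f i).ker ≤ (f (i + 1)).ker := fun x hx => by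
        show x ^ p ^ (i + 1) = 1
        rw [pow_succ, pow_mul, show x ^ p ^ i = 1 from hx, one_pow]
      have hran : φ.range = (f 1).ker := by
        apply le_antisymm
        · rintro _ ⟨⟨x, hx⟩, rfl⟩
          show (x ^ p ^ i) ^ p ^ 1 = 1
          rw [← pow_mul, ← pow_add]; exact hx
        · rw [← hTeq]
          rintro _ ⟨x, rfl⟩
          refine ⟨⟨x ^ p ^ (e - 1 - i), ?_⟩, ?_⟩
          · show (x ^ p ^ (e - 1 - i)) ^ p ^ (i + 1) = 1
            rw [← pow_mul, ← pow_add, show e - 1 - i + (i + 1) = e by omega, he]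
          · show (x ^ p ^ (e - 1 - i)) ^ p ^ i = x ^ p ^ (e - 1)
            rw [← pow_mul, ← pow_add, show e - 1 - i + i = e - 1 by omega]
      have h1 := φ.ker.card_mul_index
      rw [Subgroup.index_ker, hran, hker1, hker,
        Nat.card_congr (Subgroup.subgroupOfEquivOfLe hle).toEquiv, ih (by omega), ← pow_add] at h1
      rw [← h1]; ring_nf
  have hcard : Nat.card E = p ^ (2 * e) := by
    rw [← hcount e le_rfl, show (f e).ker = ⊤ from eq_top_iff.2 fun x _ => he x, Subgroup.card_top]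
  refine ⟨e, he0, hcard, he, fun h5 => ?_, ?_⟩
  · by_contra hne
    obtain ⟨g, hg, hgE, hcp⟩ := exists_norm_order hS hF hE hab
    set c := E.normalizerMonoidHom ⟨g, hg.2⟩ with hc
    letI : CommGroup E := { (inferInstance : Group E) with mul_comm := hab }
    let C : AddMonoid.End (Additive E) := MonoidHom.toAdditive c.toMonoidHom
    set N : AddMonoid.End (Additive E) := C - 1 with hN
    have hC : ∀ m : ℕ, ∀ x : E, (C ^ m) (Additive.ofMul x) = Additive.ofMul ((c ^ m) x) := by
      intro m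
      induction m with
      | zero => exact fun x => rfl
      | succ m ih =>
        intro x
        rw [pow_succ, AddMonoid.End.coe_mul, Function.comp_apply, pow_succ, MulAut.mul_apply,
          ← ih]
        rfl
    have hN1 : (1 + N) ^ p = 1 := by
      rw [hN, add_sub_cancel]
      refine AddMonoidHom.ext fun v => ?_
      obtain ⟨x, rfl⟩ := Additive.ofMul.surjective v
      exact (hC p x).trans (by rw [hcp]; rfl)
    have hNapp : ∀ x : E, N (Additive.ofMul x) = Additive.ofMul (c x / x) := fun x => rfl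
    have hpE : ∀ v : Additive E, (∃ b, p • b = v) ↔ Additive.toMul v ∈ Φ := by
      intro v
      rw [hΦ]
      constructor
      · rintro ⟨b, rfl⟩; exact ⟨Additive.toMul b, by simp [hf, powEndo]⟩
      · rintro ⟨b, hb⟩
        exact ⟨Additive.ofMul b, by apply Additive.toMul.injective; simpa [hf, powEndo] using hb⟩
    have hΩ : ∀ a : Additive E, p • a = 0 → ∃ b, p • b = a := by
      intro a ha
      have h1 : Additive.toMul a ∈ T := by
        rw [hTeq]
        show (Additive.toMul a) ^ p ^ 1 = 1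
        rw [pow_one, ← toMul_nsmul, ha]; rfl
      obtain ⟨x, hx⟩ := h1
      refine ⟨Additive.ofMul (x ^ p ^ (e - 2)), Additive.toMul.injective ?_⟩
      rw [toMul_nsmul, toMul_ofMul, ← pow_mul, ← pow_succ, show e - 2 + 1 = e - 1 by omega]
      exact hx
    -- the image of `N` and the multiples of `p`
    set D : Subgroup E := (MonoidHom.mk' (fun x => c x / x) fun x y => by
      rw [map_mul, mul_div_mul_comm] : E →* E).range ⊔ Φ with hD
    have hDtop : D ≠ ⊤ := by
      intro h
      have hΦne : ∃ a : Additive E, ∀ b, p • b ≠ a := by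
        by_contra! hall
        have : Φ = ⊤ := eq_top_iff.2 fun x _ => (hpE (Additive.ofMul x)).1 (hall _)
        rw [this, Subgroup.index_top, hk2'] at hk
        exact (Nat.one_lt_pow two_ne_zero hp.out.one_lt).ne hk
      obtain ⟨a, ha⟩ := endo_sq N hN1 hΦne
      obtain ⟨_, ⟨x, rfl⟩, w, hw, hxw⟩ := Subgroup.mem_sup.1 (h.ge (Subgroup.mem_top (Additive.toMul a)))
      obtain ⟨b, hb⟩ := (hpE (Additive.ofMul w)).2 hw
      exact ha (Additive.ofMul x) b (by rw [hb, hNapp, ← ofMul_mul]; exact congrArg Additive.ofMul hxw)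
    have hcΦ : ∀ v ∈ Φ, c v ∈ Φ := fun v hv => (hΦmap c).le ⟨v, hv, rfl⟩
    have hDc : ∀ v ∈ D, c v ∈ D := by
      intro v hv
      obtain ⟨_, ⟨x, rfl⟩, w, hw, rfl⟩ := Subgroup.mem_sup.1 hv
      rw [map_mul]
      refine D.mul_mem (Subgroup.mem_sup_left ⟨c x, ?_⟩) (Subgroup.mem_sup_right (hcΦ w hw))
      show c (c x) / c x = c (c x / x)
      rw [map_div]
    have hrel : Φ.relIndex D ∣ p := by
      obtain ⟨i, hi⟩ := hEp.index D
      have hi0 : i ≠ 0 := fun h => hDtop (Subgroup.index_eq_one.1 (by rw [hi, h, pow_zero]))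
      have h1 := Subgroup.relIndex_mul_index (le_sup_right : Φ ≤ D)
      rw [hk, hk2', hi, ← (Nat.succ_pred_eq_of_ne_zero hi0), pow_succ, ← mul_assoc, pow_two] at h1
      exact ⟨p ^ i.pred / 1 * 1, by
        rw [Nat.div_one, mul_one]; exact (Nat.eq_of_mul_eq_mul_right hp.out.pos h1).symm⟩
    haveI : (Φ.subgroupOf D).Normal := ⟨fun v hv u => (inferInstance : Φ.Normal).conj_mem _ hv _⟩
    have hN2 : ∀ a, ∃ b, p • b = N (N a) := by
      intro a
      obtain ⟨x, rfl⟩ := Additive.ofMul.surjective a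
      rw [hNapp, hNapp, hpE, toMul_ofMul]
      have h1 := step_fixed (le_sup_right : Φ ≤ D) hcΦ hDc hrel (a := 1) (by rw [pow_one, hcp])
        (c x / x) (Subgroup.mem_sup_left ⟨x, rfl⟩)
      rwa [← div_eq_inv_mul] at h1
    have hfin := endo_trivial h5 hΩ N hN1 hN2
    refine hgE (Resistant.mem_of_stab hEp hE.1 hno (le_refl Φ) le_rfl (fun α _ => hΦmap α)
      (fun α _ => hΦmap α) hg (Resistant.mem_stab.2 ?_))
    have key : ∀ x : E, x⁻¹ * c x ∈ Φ := fun x => by
      have h1 := (hpE _).1 (hfin (Additive.ofMul x))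
      rwa [hNapp, toMul_ofMul, div_eq_inv_mul] at h1
    exact ⟨key, fun x _ => key x⟩
  · obtain ⟨a, b, hgen⟩ := exists_closure_pair hEp hrk
    haveI : NeZero (p ^ e) := ⟨(Nat.pow_pos hp.out.pos).ne'⟩
    exact equiv_zmod_sq (p ^ e) hab he (by rw [hcard, two_mul, pow_add]) hgen

end Cfsg.Agent.H73.SmallEssential
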