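import Mathlib
import Cfsg.Agent.H73.SmallEssential.Homocyclic
import Cfsg.Agent.FusionSys.CubeEssential
import Cfsg.Agent.PGroup.ClassTwo
import Cfsg.Agent.PGroup.Extraspecial
import Cfsg.Agent.TwoGroups.Recognition

/-! Groups of order `p ^ 4` without a characteristic series with steps of order at most `p`. -/

set_option autoImplicit false
set_option linter.style.haveILetI false
set_option linter.unusedSectionVars false

open scoped commutatorElement

namespace Cfsg.Agent.H73.SmallEssential

/-- There is no characteristic series of length four with steps of order at most `p`. -/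
def NoSmallSeries (p : ℕ) (X : Type*) [Group X] : Prop :=
  ∀ K L D : Subgroup X, K.Characteristic → L.Characteristic → D.Characteristic → K ≤ L → L ≤ D →
    Nat.card K ∣ p → K.relIndex L ∣ p → L.relIndex D ∣ p → D.index ∣ p → False

variable {p : ℕ} [hp : Fact p.Prime] {X : Type*} [Group X] [Finite X]

theorem char_of_mem {H : Subgroup X} (h : ∀ φ : MulAut X, ∀ v ∈ H, φ v ∈ H) : H.Characteristic :=
  Subgroup.characteristic_iff_map_le.2 fun φ => by rintro _ ⟨v, hv, rfl⟩; exact h φ v hv

theorem char_mem {H : Subgroup X} (h : H.Characteristic) (φ : MulAut X) {v : X} (hv : v ∈ H) :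
    φ v ∈ H := Subgroup.characteristic_iff_map_le.1 h φ ⟨v, hv, rfl⟩

theorem relIndex_of_cards {H K : Subgroup X} (h : H ≤ K) {a b : ℕ} (hH : Nat.card H = p ^ a)
    (hK : Nat.card K = p ^ b) : H.relIndex K = p ^ (b - a) := by
  have h1 := (H.subgroupOf K).card_mul_index
  rw [Nat.card_congr (Subgroup.subgroupOfEquivOfLe h).toEquiv, hH, hK] at h1
  have hab : a ≤ b := (Nat.pow_dvd_pow_iff_le_right hp.out.one_lt).1 ⟨_, h1.symm⟩
  rw [← Nat.add_sub_cancel' hab, pow_add] at h1
  exact Nat.eq_of_mul_eq_mul_left (Nat.pow_pos hp.out.pos) h1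

theorem card_lt_mul {H K : Subgroup X} (hX : IsPGroup p X) (h : H < K) :
    p * Nat.card H ≤ Nat.card K := by
  obtain ⟨a, ha⟩ := IsPGroup.iff_card.1 (hX.to_subgroup H)
  obtain ⟨b, hb⟩ := IsPGroup.iff_card.1 (hX.to_subgroup K)
  have hlt : Nat.card H < Nat.card K := lt_of_le_of_ne (Subgroup.card_le_of_le h.le) fun e =>
    h.ne (Subgroup.eq_of_le_of_card_ge h.le e.ge)
  rw [ha, hb, Nat.pow_lt_pow_iff_right hp.out.one_lt] at hlt
  rw [ha, hb, ← pow_succ']
  exact Nat.pow_le_pow_right hp.out.pos hlt

theorem lt_sup_zpowers {H : Subgroup X} {a : X} (ha : a ∉ H) : H < H ⊔ Subgroup.zpowers a :=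
  lt_of_le_of_ne le_sup_left fun e =>
    ha (e.symm ▸ (Subgroup.mem_sup_right (Subgroup.mem_zpowers a) : a ∈ H ⊔ Subgroup.zpowers a))

/-- Data of a nonabelian group of order `p ^ 4` with centre of order `p ^ 2`. -/
structure CenterSq (p : ℕ) (X : Type*) [Group X] : Prop where
  card : Nat.card X = p ^ 4
  hna : ¬ IsMulCommutative X
  cardZ : Nat.card (Subgroup.center X) = p ^ 2
  hpow : ∀ x : X, x ^ p ∈ Subgroup.center X
  hcomm : commutator X ≤ Subgroup.center X
  cardK : Nat.card (commutator X) = p

theorem CenterSq.hX (h : CenterSq p X) : IsPGroup p X := IsPGroup.of_card h.card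

/-- A characteristic subgroup of index `p` containing the centre is excluded. -/
theorem CenterSq.false_of_char (h : CenterSq p X) (hno : NoSmallSeries p X) (D : Subgroup X)
    (hD : D.Characteristic) (hle : Subgroup.center X ≤ D) (hidx : D.index = p) : False := by
  have hDc : Nat.card D = p ^ 3 := by
    have h1 := D.card_mul_index
    rw [hidx, h.card, pow_succ] at h1
    exact Nat.eq_of_mul_eq_mul_right hp.out.pos h1
  refine hno (commutator X) (Subgroup.center X) D inferInstance inferInstance hD h.hcomm hle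
    h.cardK.dvd ?_ ?_ hidx.dvd
  · rw [relIndex_of_cards h.hcomm (h.cardK.trans (pow_one p).symm) h.cardZ, pow_one]
  · rw [relIndex_of_cards hle h.cardZ hDc, pow_one]

/-- The centre and two noncommuting elements generate the group. -/
theorem CenterSq.gen (h : CenterSq p X) {a b : X} (hab : a * b ≠ b * a) :
    Subgroup.center X ⊔ Subgroup.zpowers a ⊔ Subgroup.zpowers b = ⊤ := by
  set Z := Subgroup.center X
  have ha : a ∉ Z := fun ha => hab (Subgroup.mem_center_iff.1 ha b).symm
  have hb : b ∉ Z ⊔ Subgroup.zpowers a := fun hb => by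
    have hle : Z ⊔ Subgroup.zpowers a ≤ Subgroup.centralizer ({a} : Set X) :=
      sup_le (Subgroup.center_le_centralizer _)
        (Subgroup.zpowers_le.2 (Subgroup.mem_centralizer_singleton_iff.2 rfl))
    exact hab (Subgroup.mem_centralizer_singleton_iff.1 (hle hb)).symm
  refine Subgroup.eq_top_of_le_card _ ?_
  calc Nat.card X = p * (p * Nat.card Z) := by rw [h.card, h.cardZ]; ring
    _ ≤ p * Nat.card (Z ⊔ Subgroup.zpowers a : Subgroup X) :=
        Nat.mul_le_mul_left p (card_lt_mul h.hX (lt_sup_zpowers ha))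
    _ ≤ _ := card_lt_mul h.hX (lt_sup_zpowers hb)

/-- Generated subgroup of two noncommuting elements and a central complement. -/
theorem CenterSq.split (h : CenterSq p X) (hK : ∀ x : X, x ^ p ∈ commutator X)
    (hZ : ∀ z ∈ Subgroup.center X, z ^ p = 1) {a b : X} (hab : a * b ≠ b * a) :
    Nat.card (Subgroup.closure ({a, b} : Set X)) = p ^ 3 ∧
      ¬ IsMulCommutative (Subgroup.closure ({a, b} : Set X)) ∧
      Nonempty (X ≃* ↥(Subgroup.closure ({a, b} : Set X)) × Multiplicative (ZMod p)) := by
  classical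
  set E := Subgroup.closure ({a, b} : Set X) with hE
  have haE : a ∈ E := Subgroup.subset_closure (Set.mem_insert a _)
  have hbE : b ∈ E := Subgroup.subset_closure (Set.mem_insert_of_mem a (Set.mem_singleton b))
  have hEna : ¬ IsMulCommutative E := fun hc =>
    hab (congrArg Subtype.val (hc.is_comm.comm ⟨a, haE⟩ ⟨b, hbE⟩))
  have hΦ : frattini X ≤ commutator X := (PGroup.frattini_le_iff h.hX).2 ⟨le_rfl, hK⟩
  have hne : E ≠ ⊤ := by
    intro htop
    have h1 : (frattini X).index ≤ p ^ 2 := by
      refine (PGroup.index_frattini_le_pow_card h.hX (S := {a, b}) ?_).trans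
        (Nat.pow_le_pow_right hp.out.pos Finset.card_le_two)
      simpa using htop
    have h2 : Nat.card (frattini X) ≤ p := (Subgroup.card_le_of_le hΦ).trans h.cardK.le
    have h3 := (frattini X).card_mul_index
    rw [h.card] at h3
    have : p ^ 4 ≤ p * p ^ 2 := h3 ▸ Nat.mul_le_mul h2 h1
    rw [← pow_succ', Nat.pow_le_pow_iff_right hp.out.one_lt] at this
    omega
  obtain ⟨e, he⟩ := IsPGroup.iff_card.1 (h.hX.to_subgroup E)
  have he3 : e = 3 := by
    have h4 : e < 4 := by
      by_contra hlt
      exact hne (Subgroup.eq_top_of_le_card E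
        (by rw [he, h.card]; exact Nat.pow_le_pow_right hp.out.pos (by omega)))
    by_contra h3
    refine hEna ?_
    rcases (by omega : e ≤ 1 ∨ e = 2) with h1 | rfl
    · have : IsCyclic E := by
        rcases Nat.le_one_iff_eq_zero_or_eq_one.1 h1 with rfl | rfl
        · haveI := (Nat.card_eq_one_iff_unique.1 (he.trans (pow_zero p))).1
          infer_instance
        · exact isCyclic_of_prime_card (p := p) (he.trans (pow_one p))
      exact this.isMulCommutative
    · exact IsPGroup.isMulCommutative_of_card_eq_prime_sq he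
  subst he3
  obtain ⟨z, hz, hzE⟩ : ∃ z ∈ Subgroup.center X, z ∉ E := by
    by_contra! hall
    exact hne (top_le_iff.1 ((h.gen hab).ge.trans
      (sup_le (sup_le hall (Subgroup.zpowers_le.2 haE)) (Subgroup.zpowers_le.2 hbE))))
  have hzo : orderOf z = p := by
    refine orderOf_eq_prime (hZ z hz) fun e => hzE (e ▸ E.one_mem)
  have hzc : Nat.card (Subgroup.zpowers z) = p := by rw [Nat.card_zpowers, hzo]
  let f : E × Subgroup.zpowers z →* X :=
    E.subtype.noncommCoprod (Subgroup.zpowers z).subtype fun u w => by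
      obtain ⟨k, hk⟩ := w.2
      show (u : X) * w = w * u
      rw [← hk]
      exact Subgroup.mem_center_iff.1 ((Subgroup.center X).zpow_mem hz k) u
  have hinf : E ⊓ Subgroup.zpowers z = ⊥ := by
    have h1 := Subgroup.card_dvd_of_le (inf_le_right : E ⊓ Subgroup.zpowers z ≤ Subgroup.zpowers z)
    rw [hzc] at h1
    refine Subgroup.card_eq_one.1 ((hp.out.eq_one_or_self_of_dvd _ h1).resolve_right fun e => hzE ?_)
    exact (Subgroup.eq_of_le_of_card_ge (inf_le_right : E ⊓ Subgroup.zpowers z ≤ _)
      (by rw [hzc, e])).ge (Subgroup.mem_zpowers z) |>.1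
  have hinj : Function.Injective f := by
    refine (injective_iff_map_eq_one f).2 ?_
    rintro ⟨u, w⟩ huw
    have h1 : (u : X) * w = 1 := huw
    have hu : (u : X) ∈ E ⊓ Subgroup.zpowers z :=
      ⟨u.2, by rw [eq_inv_of_mul_eq_one_left h1]; exact Subgroup.inv_mem _ w.2⟩
    rw [hinf, Subgroup.mem_bot] at hu
    rw [hu, one_mul] at h1
    exact Prod.ext (Subtype.ext hu) (Subtype.ext h1)
  have hbij : Function.Bijective f := (Nat.bijective_iff_injective_and_card f).2
    ⟨hinj, by rw [Nat.card_prod, he, hzc, h.card, ← pow_succ]⟩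
  refine ⟨he, hEna, ⟨(MulEquiv.ofBijective f hbij).symm.trans
    ((MulEquiv.refl E).prodCongr (mulEquivOfPrimeCardEq hzc ?_))⟩⟩
  rw [Nat.card_congr Multiplicative.toAdd, Nat.card_zmod]

/-- The centre cannot have order `p`. -/
theorem center_card (hno : NoSmallSeries p X) (hcard : Nat.card X = p ^ 4)
    (hZ : Nat.card (Subgroup.center X) = p) : False := by
  classical
  have hX : IsPGroup p X := IsPGroup.of_card hcard
  have hna : ¬ IsMulCommutative X := fun hc => by
    have h1 : Subgroup.center X = ⊤ :=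
      eq_top_iff.2 fun v _ => Subgroup.mem_center_iff.2 fun u => hc.is_comm.comm u v
    rw [h1, Subgroup.card_top, hcard] at hZ
    have := Nat.pow_right_injective hp.out.two_le (hZ.trans (pow_one p).symm)
    omega
  set Z := Subgroup.center X with hZd
  set H := commutator X with hH
  have hH1 : H ≠ ⊥ := fun h => hna ⟨⟨fun a b => Subgroup.mem_center_iff.1
    (((commutator_eq_bot_iff_center_eq_top X).1 h).ge (Subgroup.mem_top b)) a⟩⟩
  have hZH : Z ≤ H := by
    have h1 : H ⊓ Z ≠ ⊥ := PGroup.inf_center_ne_bot hX H hH1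
    have h2 := Subgroup.card_dvd_of_le (inf_le_right : H ⊓ Z ≤ Z)
    rw [hZ] at h2
    have h3 : Nat.card (H ⊓ Z : Subgroup X) = p :=
      (hp.out.eq_one_or_self_of_dvd _ h2).resolve_left fun e => h1 (Subgroup.card_eq_one.1 e)
    exact (Subgroup.eq_of_le_of_card_ge (inf_le_right : H ⊓ Z ≤ Z) (by rw [h3, hZ])).ge.trans
      inf_le_left
  obtain ⟨j, hj⟩ := IsPGroup.iff_card.1 (hX.to_subgroup H)
  have hj2 : 2 ≤ j := by
    by_contra hlt
    have hHZ : H ≤ Z := (Subgroup.eq_of_le_of_card_ge hZH (by
      rw [hj, hZ]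
      exact (Nat.pow_le_pow_right hp.out.pos (show j ≤ 1 by omega)).trans (pow_one p).le)).ge
    have hpow : ∀ x : X, x ^ p ∈ Z := fun x => Subgroup.mem_center_iff.2 fun y => by
      have hc : ⁅x, y⁆ ∈ Subgroup.center X := PGroup.commutatorElement_mem_center hHZ x y
      have h1 : ⁅x, y⁆ ^ p = 1 := by
        have h2 := pow_card_eq_one' (G := Z) (x := ⟨_, hc⟩)
        rw [hZ] at h2
        exact congrArg Subtype.val h2
      have h2 := PGroup.commutatorElement_pow_left hc p
      rw [h1] at h2
      exact (commutatorElement_eq_one_iff_mul_comm.1 h2).symm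
    obtain ⟨n, -, hn⟩ :=
      PGroup.extraspecial_exists_card (PGroup.isExtraspecial_of_center hX hZ hna hHZ hpow)
    rw [hcard] at hn
    have := Nat.pow_right_injective hp.out.two_le hn
    omega
  have hjle : j ≤ 2 := by
    by_contra hlt
    refine hna ?_
    have h1 : (frattini X).index ≤ p := by
      have h2 := H.card_mul_index
      rw [hj, hcard] at h2
      refine (Nat.le_of_dvd (Nat.pos_of_ne_zero Subgroup.index_ne_zero_of_finite)
        (Subgroup.index_dvd_of_le (PGroup.commutator_le_frattini hX))).trans ?_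
      have h3 : p ^ 3 * H.index ≤ p ^ 3 * p :=
        (Nat.mul_le_mul_right _ (Nat.pow_le_pow_right hp.out.pos (show 3 ≤ j by omega))).trans
          (by rw [h2, ← pow_succ])
      exact Nat.le_of_mul_le_mul_left h3 (Nat.pow_pos hp.out.pos)
    exact (PGroup.isCyclic_of_index_frattini_le hX h1).isMulCommutative
  obtain rfl : j = 2 := by omega
  obtain ⟨w, hwH, hwZ⟩ : ∃ w ∈ H, w ∉ Z := SetLike.not_le_iff_exists.1 fun h => by
    have := Subgroup.card_le_of_le h
    rw [hj, hZ] at this
    exact absurd this (by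
      rw [not_le]; calc p = p ^ 1 := (pow_one p).symm
        _ < p ^ 2 := Nat.pow_lt_pow_right hp.out.one_lt (by norm_num))
  have hHgen : Z ⊔ Subgroup.zpowers w = H := by
    refine Subgroup.eq_of_le_of_card_ge (sup_le hZH (Subgroup.zpowers_le.2 hwH)) ?_
    rw [hj, pow_two]
    conv_lhs => rw [← hZ]; arg 1; rw [hZ]
    exact card_lt_mul hX (lt_sup_zpowers hwZ)
  set C := Subgroup.centralizer (H : Set X) with hC
  have hHC : H ≤ C := fun v hv => Subgroup.mem_centralizer_iff.2 fun u hu =>
    congrArg Subtype.val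
      ((IsPGroup.isMulCommutative_of_card_eq_prime_sq hj).is_comm.comm ⟨u, hu⟩ ⟨v, hv⟩)
  have hCeq : C = Subgroup.centralizer ({w} : Set X) := by
    refine le_antisymm (Subgroup.centralizer_le (Set.singleton_subset_iff.2 hwH)) fun v hv => ?_
    refine Subgroup.mem_centralizer_iff.2 fun u hu => ?_
    have hle : H ≤ Subgroup.centralizer ({v} : Set X) := by
      rw [← hHgen]
      exact sup_le (Subgroup.center_le_centralizer _) (Subgroup.zpowers_le.2
        (Subgroup.mem_centralizer_singleton_iff.2
          (Subgroup.mem_centralizer_singleton_iff.1 hv).symm))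
    exact Subgroup.mem_centralizer_singleton_iff.1 (hle hu)
  haveI hCchar : C.Characteristic := char_of_mem fun φ v hv => Subgroup.mem_centralizer_iff.2
    fun u hu => by
      have hu' : φ.symm u ∈ H := char_mem (inferInstance : H.Characteristic) φ.symm hu
      have h1 := congrArg φ (Subgroup.mem_centralizer_iff.1 hv _ hu')
      rwa [map_mul, map_mul, φ.apply_symm_apply] at h1
  obtain ⟨i, hi⟩ := hX.index C
  have hi1 : i = 1 := by
    have hne : i ≠ 0 := fun h0 => hwZ (Subgroup.mem_center_iff.2 fun y => by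
      have h1 : y ∈ C := (Subgroup.index_eq_one.1 (by rw [hi, h0, pow_zero])).ge (Subgroup.mem_top y)
      rw [hCeq] at h1
      exact Subgroup.mem_centralizer_singleton_iff.1 h1)
    have hlt : C.index < p ^ 2 := by
      rw [hCeq, ← hj, Subgroup.index_eq_card]
      haveI : (H : Subgroup X).Normal := inferInstance
      let g : X ⧸ Subgroup.centralizer ({w} : Set X) → H :=
        Quotient.lift (fun y => (⟨y * w * y⁻¹, Subgroup.Normal.conj_mem ‹_› w hwH y⟩ : H))
          fun u v huv => by
            have h1 := Subgroup.mem_centralizer_singleton_iff.1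
              (QuotientGroup.leftRel_apply.1 huv)
            refine Subtype.ext ?_
            show u * w * u⁻¹ = v * w * v⁻¹
            calc u * w * u⁻¹ = u * (u⁻¹ * v * w * (u⁻¹ * v)⁻¹) * u⁻¹ := by
                  rw [h1, mul_inv_cancel_right]
              _ = _ := by group
      have hg : Function.Injective g := by
        rintro ⟨u⟩ ⟨v⟩ huv
        have h1 : u * w * u⁻¹ = v * w * v⁻¹ := congrArg Subtype.val huv
        refine Quotient.sound (QuotientGroup.leftRel_apply.2
          (Subgroup.mem_centralizer_singleton_iff.2 ?_))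
        calc u⁻¹ * v * w = u⁻¹ * (v * w * v⁻¹) * v := by group
          _ = w * (u⁻¹ * v) := by rw [← h1]; group
      refine lt_of_le_of_ne (Nat.card_le_card_of_injective g hg) fun e => ?_
      obtain ⟨q, hq⟩ := ((Nat.bijective_iff_injective_and_card g).2 ⟨hg, e⟩).2 1
      induction q using Quotient.inductionOn with
      | _ y =>
        refine hwZ ?_
        have h1 : y * w * y⁻¹ = 1 := congrArg Subtype.val hq
        rw [conj_eq_one_iff.1 h1]
        exact Z.one_mem
    rw [hi, Nat.pow_lt_pow_iff_right hp.out.one_lt] at hlt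
    omega
  have hCc : Nat.card C = p ^ 3 := by
    have h1 := C.card_mul_index
    rw [hi, hi1, pow_one, hcard, pow_succ p 3] at h1
    exact Nat.eq_of_mul_eq_mul_right hp.out.pos h1
  refine hno Z H C inferInstance inferInstance hCchar hZH hHC hZ.dvd ?_ ?_ ?_
  · rw [relIndex_of_cards hZH (hZ.trans (pow_one p).symm) hj, pow_one]
  · rw [relIndex_of_cards hHC hj hCc, pow_one]
  · rw [hi, hi1, pow_one]

/-- The nonabelian groups of order `p ^ 4` without small characteristic series. -/
theorem quartic_nonabelian (hno : NoSmallSeries p X) (hcard : Nat.card X = p ^ 4)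
    (hna : ¬ IsMulCommutative X) :
    (Odd p ∧ ∃ a b : X, Cfsg.IsExtraspecial p ↥(Subgroup.closure ({a, b} : Set X)) ∧
        Nat.card (Subgroup.closure ({a, b} : Set X)) = p ^ 3 ∧ (∀ x : X, x ^ p = 1) ∧
        Nonempty (X ≃* ↥(Subgroup.closure ({a, b} : Set X)) × Multiplicative (ZMod p))) ∨
      (p = 2 ∧ Nonempty (X ≃* QuaternionGroup 2 × Multiplicative (ZMod 2))) ∨
      ((∀ x : X, x ^ (p ^ 2) = 1) ∧ IsCyclic (Subgroup.center X) ∧
        Nat.card (Subgroup.center X) = p ^ 2) := by
  classical
  have hX : IsPGroup p X := IsPGroup.of_card hcard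
  haveI : Nontrivial X :=
    Finite.one_lt_card_iff_nontrivial.1 (hcard ▸ Nat.one_lt_pow (by norm_num) hp.out.one_lt)
  haveI := hX.center_nontrivial
  set Z := Subgroup.center X with hZd
  obtain ⟨i, hi⟩ := IsPGroup.iff_card.1 (hX.to_subgroup Z)
  obtain ⟨k, hk⟩ := hX.index Z
  have hsum : i + k = 4 := by
    have h1 := Z.card_mul_index
    rw [hi, hk, hcard, ← pow_add] at h1
    exact Nat.pow_right_injective hp.out.two_le h1
  have hnc : ¬ IsCyclic (X ⧸ Z) := fun hc => hna (isMulCommutative_of_isCyclic_quotient_center_self X)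
  have hi2 : i = 2 := by
    have hi0 : i ≠ 0 := by
      rintro rfl
      have := Finite.one_lt_card (α := Z)
      rw [hi, pow_zero] at this
      omega
    have hi1 : i ≠ 1 := fun h1 => center_card hno hcard (by rw [hi, h1, pow_one])
    have hk2 : 2 ≤ k := by
      by_contra hlt
      refine hnc ?_
      rcases (by omega : k = 0 ∨ k = 1) with rfl | rfl
      · haveI := (Nat.card_eq_one_iff_unique.1 (by
          rw [← Subgroup.index_eq_card, hk, pow_zero] : Nat.card (X ⧸ Z) = 1)).1
        exact isCyclic_of_subsingleton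
      · exact isCyclic_of_prime_card (p := p) (by rw [← Subgroup.index_eq_card, hk, pow_one])
    omega
  subst hi2
  have hQ : Nat.card (X ⧸ Z) = p ^ 2 := by rw [← Subgroup.index_eq_card, hk, show k = 2 by omega]
  have hcomm : commutator X ≤ Z := Subgroup.Normal.quotient_commutative_iff_commutator_le.1
    ⟨⟨(IsPGroup.isMulCommutative_of_card_eq_prime_sq hQ).is_comm.comm⟩⟩
  have hpow : ∀ x : X, x ^ p ∈ Z := by
    intro a
    refine (QuotientGroup.eq_one_iff _).1 ?_
    show QuotientGroup.mk' Z (a ^ p) = 1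
    rw [map_pow]
    obtain ⟨e, he⟩ := (Nat.dvd_prime_pow hp.out).1 (hQ ▸ orderOf_dvd_natCard (QuotientGroup.mk' Z a))
    refine orderOf_dvd_iff_pow_eq_one.1 ?_
    rw [he.2]
    rcases (by omega : e ≤ 1 ∨ e = 2) with h | rfl
    · exact (Nat.pow_dvd_pow p h).trans (pow_one p).dvd
    · exact absurd (isCyclic_of_orderOf_eq_card (QuotientGroup.mk' Z a) (he.2.trans hQ.symm)) hnc
  have hcl : ∀ u v : X, ⁅u, v⁆ ∈ Z := PGroup.commutatorElement_mem_center hcomm
  have hcp : ∀ u v : X, ⁅u, v⁆ ^ p = 1 := fun u v => by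
    rw [← PGroup.commutatorElement_pow_left (hcl u v) p, commutatorElement_eq_one_iff_mul_comm]
    exact (Subgroup.mem_center_iff.1 (hpow u) v).symm
  obtain ⟨a, b, hab⟩ : ∃ a b : X, a * b ≠ b * a := by
    by_contra! h
    exact hna ⟨⟨h⟩⟩
  have hk0 : ⁅b, a⁆ ≠ 1 := fun e => hab (commutatorElement_eq_one_iff_mul_comm.1 e).symm
  have hKo : orderOf ⁅b, a⁆ = p := orderOf_eq_prime (hcp b a) hk0
  -- the commutator subgroup
  have hK : commutator X = Subgroup.zpowers ⁅b, a⁆ := by
    refine le_antisymm ?_ (Subgroup.zpowers_le.2 (Subgroup.commutator_mem_commutator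
      (Subgroup.mem_top b) (Subgroup.mem_top a)))
    haveI : (Subgroup.zpowers ⁅b, a⁆).Normal :=
      ⟨fun v hv u => by
        rw [Subgroup.mem_center_iff.1 ((Subgroup.zpowers_le.2 (hcl b a)) hv) u, mul_inv_cancel_right]
        exact hv⟩
    refine Subgroup.Normal.quotient_commutative_iff_commutator_le.1 ⟨⟨?_⟩⟩
    set π := QuotientGroup.mk' (Subgroup.zpowers ⁅b, a⁆) with hπ
    have hgen : ∀ H : Subgroup (X ⧸ Subgroup.zpowers ⁅b, a⁆), Z.map π ≤ H → π a ∈ H → π b ∈ H →
        H = ⊤ := fun H h1 h2 h3 => by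
      have h4 : (⊤ : Subgroup X) ≤ H.comap π := by
        have hg : Z ⊔ Subgroup.zpowers a ⊔ Subgroup.zpowers b = ⊤ := by
          have ha : a ∉ Z := fun ha => hab (Subgroup.mem_center_iff.1 ha b).symm
          have hb : b ∉ Z ⊔ Subgroup.zpowers a := fun hb => by
            have hle : Z ⊔ Subgroup.zpowers a ≤ Subgroup.centralizer ({a} : Set X) :=
              sup_le (Subgroup.center_le_centralizer _)
                (Subgroup.zpowers_le.2 (Subgroup.mem_centralizer_singleton_iff.2 rfl))
            exact hab (Subgroup.mem_centralizer_singleton_iff.1 (hle hb)).symm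
          refine Subgroup.eq_top_of_le_card _ ?_
          calc Nat.card X = p * (p * Nat.card Z) := by rw [hcard, hi]; ring
            _ ≤ p * Nat.card (Z ⊔ Subgroup.zpowers a : Subgroup X) :=
                Nat.mul_le_mul_left p (card_lt_mul hX (lt_sup_zpowers ha))
            _ ≤ _ := card_lt_mul hX (lt_sup_zpowers hb)
        rw [← hg]
        exact sup_le (sup_le (Subgroup.map_le_iff_le_comap.1 h1)
          (Subgroup.zpowers_le.2 h2)) (Subgroup.zpowers_le.2 h3)
      refine eq_top_iff.2 fun q _ => ?_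
      obtain ⟨y, rfl⟩ := QuotientGroup.mk'_surjective _ q
      exact h4 (Subgroup.mem_top y)
    have hZc : Z.map π ≤ Subgroup.center _ := by
      rintro _ ⟨z, hz, rfl⟩
      refine Subgroup.mem_center_iff.2 fun q => ?_
      obtain ⟨y, rfl⟩ := QuotientGroup.mk'_surjective _ q
      rw [← map_mul, Subgroup.mem_center_iff.1 hz y, map_mul]
    have hpab : π b * π a = π a * π b := by
      rw [← commutatorElement_eq_one_iff_mul_comm, ← map_commutatorElement]
      exact (QuotientGroup.eq_one_iff _).2 (Subgroup.mem_zpowers _)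
    have hca : π a ∈ Subgroup.center _ := by
      have h1 := hgen (Subgroup.centralizer {π a}) (hZc.trans (Subgroup.center_le_centralizer _))
        (Subgroup.mem_centralizer_singleton_iff.2 rfl)
        (Subgroup.mem_centralizer_singleton_iff.2 hpab)
      exact Subgroup.mem_center_iff.2 fun q =>
        Subgroup.mem_centralizer_singleton_iff.1 (h1.ge (Subgroup.mem_top q))
    have hcb : π b ∈ Subgroup.center _ := by
      have h1 := hgen (Subgroup.centralizer {π b}) (hZc.trans (Subgroup.center_le_centralizer _))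
        (Subgroup.mem_centralizer_singleton_iff.2 hpab.symm)
        (Subgroup.mem_centralizer_singleton_iff.2 rfl)
      exact Subgroup.mem_center_iff.2 fun q =>
        Subgroup.mem_centralizer_singleton_iff.1 (h1.ge (Subgroup.mem_top q))
    have htop := hgen _ hZc hca hcb
    exact fun u v => Subgroup.mem_center_iff.1 (htop.ge (Subgroup.mem_top v)) u
  have h : CenterSq p X :=
    ⟨hcard, hna, hi, hpow, hcomm, by rw [hK, Nat.card_zpowers, hKo]⟩
  by_cases hZe : ∀ z ∈ Z, z ^ p = 1
  swap
  · -- cyclic centre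
    push Not at hZe
    obtain ⟨z, hz, hzp⟩ := hZe
    have hzo : orderOf z = p ^ 2 := by
      refine orderOf_eq_prime_pow (n := 1) (by simpa using hzp) ?_
      have h1 := pow_card_eq_one' (G := Z) (x := ⟨z, hz⟩)
      rw [hi] at h1
      exact congrArg Subtype.val h1
    have hcyc : IsCyclic Z := isCyclic_of_orderOf_eq_card (⟨z, hz⟩ : Z)
      (by rw [← Subgroup.orderOf_coe, hi]; exact hzo)
    refine Or.inr (Or.inr ⟨?_, hcyc, hi⟩)
    by_contra hexp
    let f : X →* X := MonoidHom.mk' (fun x => x ^ p ^ 2) fun u v => by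
      refine PGroup.mul_pow_of_commutatorElement (hcl v u) (p ^ 2) |>.trans ?_
      obtain ⟨c, hc⟩ : p ∣ (p ^ 2).choose 2 := by
        rcases hp.out.eq_two_or_odd' with rfl | hodd
        · exact ⟨3, by decide⟩
        · exact (dvd_pow_self p two_ne_zero).trans (PGroup.dvd_choose_two_of_odd hodd.pow)
      rw [hc, pow_mul, hcp, one_pow, mul_one]
    have hR : f.range ≤ Subgroup.zpowers (z ^ p) := by
      rintro _ ⟨x, rfl⟩
      show x ^ p ^ 2 ∈ _
      obtain ⟨m, hm⟩ : x ^ p ∈ Subgroup.zpowers z := by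
        have h1 : Subgroup.zpowers z = Z := Subgroup.eq_of_le_of_card_ge
          (Subgroup.zpowers_le.2 hz) (by rw [hi, Nat.card_zpowers, hzo])
        rw [h1]; exact hpow x
      refine ⟨m, ?_⟩
      show (z ^ p) ^ m = x ^ p ^ 2
      rw [pow_two, pow_mul, ← (hm : z ^ m = x ^ p), ← zpow_natCast (z ^ m), ← zpow_natCast z p,
        ← zpow_mul, ← zpow_mul, mul_comm]
    have hidx : f.ker.index = p := by
      rw [Subgroup.index_ker]
      have h1 := Subgroup.card_dvd_of_le hR
      rw [Nat.card_zpowers, orderOf_pow, hzo, Nat.gcd_eq_right (dvd_pow_self p two_ne_zero), pow_two,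
        Nat.mul_div_cancel _ hp.out.pos] at h1
      refine (hp.out.eq_one_or_self_of_dvd _ h1).resolve_left fun h2 => hexp fun x => ?_
      exact Subgroup.mem_bot.1 ((Subgroup.card_eq_one.1 h2).le ⟨x, rfl⟩)
    refine h.false_of_char hno f.ker (char_of_mem fun φ v hv => ?_) (fun v hv => ?_) hidx
    · rw [MonoidHom.mem_ker] at hv ⊢
      show (φ v) ^ p ^ 2 = 1
      rw [← map_pow, show v ^ p ^ 2 = 1 from hv, map_one]
    · show v ^ p ^ 2 = 1
      have h1 := pow_card_eq_one' (G := Z) (x := ⟨v, hv⟩)
      rw [hi] at h1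
      exact congrArg Subtype.val h1
  rcases hp.out.eq_two_or_odd' with rfl | hodd
  · -- `p = 2`
    refine Or.inr (Or.inl ⟨rfl, ?_⟩)
    have hkk : ⁅b, a⁆ * ⁅b, a⁆ = 1 := by rw [← pow_two]; exact hcp b a
    have hKmem : ∀ {v : X}, v ∈ commutator X → v = 1 ∨ v = ⁅b, a⁆ := fun {v} hv => by
      rw [hK] at hv
      obtain ⟨m, rfl⟩ := hv
      show ⁅b, a⁆ ^ m = 1 ∨ ⁅b, a⁆ ^ m = ⁅b, a⁆
      rw [← zpow_mod_orderOf, hKo]
      rcases Int.emod_two_eq_zero_or_one m with h1 | h1 <;> simp [h1]
    -- squares modulo the commutator subgroup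
    let g : X →* X ⧸ commutator X := MonoidHom.mk' (fun x => QuotientGroup.mk' _ (x ^ 2)) fun u v => by
      rw [← map_mul, PGroup.mul_pow_of_commutatorElement (hcl v u) 2, map_mul (QuotientGroup.mk' _),
        show QuotientGroup.mk' (commutator X) (⁅v, u⁆ ^ (2 : ℕ).choose 2) = 1 from
          (QuotientGroup.eq_one_iff _).2 (Subgroup.pow_mem _ (Subgroup.commutator_mem_commutator
          (Subgroup.mem_top v) (Subgroup.mem_top u)) _), mul_one]
    have hgall : ∀ x : X, x ^ 2 ∈ commutator X := by
      by_contra hne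
      have hR : g.range ≤ Z.map (QuotientGroup.mk' (commutator X)) := by
        rintro _ ⟨x, rfl⟩; exact ⟨x ^ 2, hpow x, rfl⟩
      have hidx : g.ker.index = 2 := by
        rw [Subgroup.index_ker]
        have h1 := Subgroup.card_dvd_of_le hR
        have h2 : Nat.card (Z.map (QuotientGroup.mk' (commutator X))) = 2 := by
          have h3 := Cores.card_comap_mk_eq (commutator X) (Z.map (QuotientGroup.mk' (commutator X)))
          rw [Subgroup.comap_map_eq_self (by rw [QuotientGroup.ker_mk']; exact hcomm), hi, h.cardK]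
            at h3
          omega
        rw [h2] at h1
        refine (Nat.prime_two.eq_one_or_self_of_dvd _ h1).resolve_left fun h3 => hne fun x => ?_
        exact (QuotientGroup.eq_one_iff _).1
          (Subgroup.mem_bot.1 ((Subgroup.card_eq_one.1 h3).le ⟨x, rfl⟩))
      refine h.false_of_char hno g.ker (char_of_mem fun φ v hv => ?_) (fun v hv => ?_) hidx
      · have h1 : v ^ 2 ∈ commutator X := (QuotientGroup.eq_one_iff _).1 hv
        refine (QuotientGroup.eq_one_iff _).2 ?_
        rw [← map_pow]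
        exact char_mem inferInstance φ h1
      · refine (QuotientGroup.eq_one_iff _).2 ?_
        rw [hZe v hv]
        exact Subgroup.one_mem _
    have hmul : ∀ u v : X, (u * v) ^ 2 = u ^ 2 * v ^ 2 * ⁅v, u⁆ := fun u v => by
      rw [PGroup.mul_pow_of_commutatorElement (hcl v u) 2]; simp
    by_cases hall : ∀ x : X, x ∉ Z → x ^ 2 = ⁅b, a⁆
    · have ha : a ∉ Z := fun ha => hab (Subgroup.mem_center_iff.1 ha b).symm
      have hb : b ∉ Z := fun hb => hab (Subgroup.mem_center_iff.1 hb a)
      have ha4 : orderOf a = 2 * 2 := by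
        have : orderOf a = 2 ^ (1 + 1) := orderOf_eq_prime_pow
          (by rw [pow_one, hall a ha]; exact hk0)
          (by rw [show 2 ^ (1 + 1) = 2 * 2 from rfl, pow_mul, hall a ha]; exact hcp b a)
        simpa using this
      have hnm : b ∉ Subgroup.zpowers a := fun hmem => by
        obtain ⟨m, hm⟩ := hmem
        rw [← hm] at hab
        exact hab ((Commute.refl a).zpow_right m).eq
      obtain ⟨hEc, hEna, ⟨e⟩⟩ := h.split hgall hZe hab
      obtain ⟨q⟩ := TwoGroups.closure_equiv_quaternion (n := 2) ha4 hnm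
        (by rw [← pow_two, hall b hb, ← hall a ha]) (by
          refine eq_inv_of_mul_eq_one_left ?_
          calc b * a * b⁻¹ * a = ⁅b, a⁆ * a ^ 2 := by rw [commutatorElement_def]; group
            _ = 1 := by rw [hall a ha]; exact hkk)
      exact ⟨e.trans (q.prodCongr (MulEquiv.refl _))⟩
    · -- an involution outside the centre
      push Not at hall
      obtain ⟨t, htZ, ht⟩ := hall
      have ht1 : t ^ 2 = 1 := (hKmem (hgall t)).resolve_right ht
      obtain ⟨c, hc⟩ : ∃ c : X, c ^ 2 = ⁅b, a⁆ := by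
        by_contra! hne
        have h1 : ∀ x : X, x ^ 2 = 1 := fun x => (hKmem (hgall x)).resolve_right (hne x)
        have := hmul a b
        rw [h1, h1, h1, one_mul, one_mul] at this
        exact hk0 this.symm
      have hcZ : c ∉ Z := fun hc' => hk0 (hc.symm.trans (hZe c hc'))
      set D := Z ⊔ Subgroup.zpowers c with hD
      have hDc : ∀ v ∈ D, c * v = v * c := fun v hv => by
        have hle : D ≤ Subgroup.centralizer ({c} : Set X) := sup_le
          (Subgroup.center_le_centralizer _)
          (Subgroup.zpowers_le.2 (Subgroup.mem_centralizer_singleton_iff.2 rfl))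
        exact (Subgroup.mem_centralizer_singleton_iff.1 (hle hv)).symm
      have hDidx : D.index = 2 := by
        obtain ⟨j, hj⟩ := hX.index D
        have hlt := card_lt_mul hX (lt_sup_zpowers hcZ)
        rw [hi] at hlt
        have hne : D ≠ ⊤ := fun htop => hcZ (Subgroup.mem_center_iff.2 fun v =>
          (hDc v (htop.ge (Subgroup.mem_top v))).symm)
        have hj0 : j ≠ 0 := fun e => hne (Subgroup.index_eq_one.1 (by rw [hj, e, pow_zero]))
        have hm := D.card_mul_index
        rw [hj, hcard] at hm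
        have : j ≤ 1 := by
          by_contra hj2
          have h3 : 2 * 2 ^ 2 * 2 ^ 2 ≤ 2 ^ 4 := hm ▸ Nat.mul_le_mul hlt
            (Nat.pow_le_pow_right (by norm_num) (show 2 ≤ j by omega))
          norm_num at h3
        rw [hj, show j = 1 by omega, pow_one]
      have hval : ∀ v ∈ D, v ∉ Z → v ^ 2 = ⁅b, a⁆ := by
        intro v hv hvZ
        obtain ⟨z, hz, w, ⟨m, rfl⟩, rfl⟩ := Subgroup.mem_sup_of_normal_left.1 (show v ∈ Z ⊔ Subgroup.zpowers c from hv)
        have hm : ¬ (2 : ℤ) ∣ m := by
          rintro ⟨s, rfl⟩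
          refine hvZ (Z.mul_mem hz ?_)
          show c ^ (2 * s) ∈ Z
          rw [zpow_mul, show c ^ (2 : ℤ) = c ^ (2 : ℕ) from zpow_natCast c 2]
          exact Z.zpow_mem (hpow c) s
        have hcz : Commute z (c ^ m) := (Subgroup.mem_center_iff.1 hz (c ^ m)).symm
        rw [hcz.mul_pow, hZe z hz, one_mul, ← zpow_natCast, ← zpow_mul, mul_comm, zpow_mul,
          zpow_natCast, hc, ← zpow_mod_orderOf, hKo,
          show m % ((2 : ℕ) : ℤ) = 1 by push_cast; omega, zpow_one]
      have htD : t ∉ D := fun hmem => hk0 ((hval t hmem htZ).symm.trans ht1)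
      refine (h.false_of_char hno D (char_of_mem fun φ v hv => ?_) le_sup_left hDidx).elim
      have hout : ∀ y : X, y ∉ D → y ^ 2 = 1 := by
        intro y hy
        have hty : t⁻¹ * y ∈ D := by
          rw [Subgroup.mul_mem_iff_of_index_two hDidx, inv_mem_iff]
          exact iff_of_false htD hy
        obtain ⟨z, hz, w, ⟨m, rfl⟩, hyv⟩ := Subgroup.mem_sup_of_normal_left.1 (show t⁻¹ * y ∈ Z ⊔ Subgroup.zpowers c from hty)
        have hy' : y = t * (z * c ^ m) := by
          rw [show z * c ^ m = t⁻¹ * y from hyv, mul_inv_cancel_left]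
        by_cases hzc : z * c ^ m ∈ Z
        · rw [hy', hmul, ht1, hZe _ hzc, one_mul, one_mul, commutatorElement_eq_one_iff_mul_comm]
          exact (Subgroup.mem_center_iff.1 hzc t).symm
        · rw [hy', hmul, ht1, one_mul, hval _ (hyv ▸ hty : z * c ^ m ∈ D) hzc]
          rcases hKmem (Subgroup.commutator_mem_commutator (Subgroup.mem_top (z * c ^ m))
            (Subgroup.mem_top t) : ⁅z * c ^ m, t⁆ ∈ commutator X) with h1 | h1
          · exfalso
            refine hzc (Subgroup.mem_center_iff.2 fun u => ?_)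
            have htop : (⊤ : Subgroup X) ≤ Subgroup.centralizer ({z * c ^ m} : Set X) := by
              have hDt : D < D ⊔ Subgroup.zpowers t := lt_sup_zpowers htD
              have h2 : D ⊔ Subgroup.zpowers t = ⊤ := by
                refine Subgroup.index_eq_one.1 ?_
                have h3 := Subgroup.index_strictAnti hDt
                rw [hDidx] at h3
                have h4 : (D ⊔ Subgroup.zpowers t).index ≠ 0 := Subgroup.index_ne_zero_of_finite
                omega
              rw [← h2]
              refine sup_le (fun d hd => ?_) (Subgroup.zpowers_le.2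
                (Subgroup.mem_centralizer_singleton_iff.2
                  (commutatorElement_eq_one_iff_mul_comm.1 h1).symm))
              obtain ⟨z', hz', w', ⟨m', rfl⟩, rfl⟩ := Subgroup.mem_sup_of_normal_left.1 (show d ∈ Z ⊔ Subgroup.zpowers c from hd)
              refine Subgroup.mem_centralizer_singleton_iff.2 ?_
              have e1 : Commute z' (z * c ^ m) := (Subgroup.mem_center_iff.1 hz' _).symm
              have e2 : Commute (c ^ m') (z * c ^ m) :=
                Commute.mul_right (Subgroup.mem_center_iff.1 hz (c ^ m')) ((Commute.refl c).zpow_zpow m' m)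
              exact (e1.mul_left e2).eq
            exact Subgroup.mem_centralizer_singleton_iff.1 (htop (Subgroup.mem_top u))
          · rw [h1]; exact hkk
      by_contra hφ
      by_cases hvZ : v ∈ Z
      · exact hφ (Subgroup.mem_sup_left (char_mem inferInstance φ hvZ))
      have h1 := hout _ hφ
      rw [← map_pow, hval v hv hvZ, MulEquiv.map_eq_one_iff] at h1
      exact hk0 h1
  · -- odd `p`
    have hp2 : p ≠ 2 := by rintro rfl; exact absurd hodd (by decide)
    let f : X →* X := MonoidHom.mk' (fun x => x ^ p) fun u v =>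
      PGroup.mul_pow_of_classTwo hcomm hodd (hpow u)
    have hfmap : ∀ (φ : MulAut X) (v : X), φ (f v) = f (φ v) := fun φ v => map_pow φ v p
    by_cases hexp : ∀ x : X, x ^ p = 1
    · obtain ⟨hEc, hEna, hiso⟩ := h.split (fun x => by rw [hexp]; exact Subgroup.one_mem _) hZe hab
      exact Or.inl ⟨hodd, a, b, (FusionSys.nonabelian_cube hEc hEna).1, hEc, hexp, hiso⟩
    · exfalso
      have hR : f.range ≤ Z := by rintro _ ⟨x, rfl⟩; exact hpow x
      have hZker : Z ≤ f.ker := fun z hz => hZe z hz
      obtain ⟨r, hr⟩ := IsPGroup.iff_card.1 (hX.to_subgroup f.range)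
      have hr2 : r ≤ 2 := by
        have h1 := Subgroup.card_le_of_le hR
        rwa [hi, hr, Nat.pow_le_pow_iff_right hp.out.one_lt] at h1
      have hr0 : r ≠ 0 := by
        rintro rfl
        exact hexp fun x => Subgroup.mem_bot.1
          ((Subgroup.card_eq_one.1 (by rw [hr, pow_zero] : Nat.card f.range = 1)).le ⟨x, rfl⟩)
      rcases (by omega : r = 1 ∨ r = 2) with rfl | rfl
      · refine h.false_of_char hno f.ker (char_of_mem fun φ v hv => ?_) hZker ?_
        · rw [MonoidHom.mem_ker] at hv ⊢
          rw [← hfmap, hv, map_one]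
        · rw [Subgroup.index_ker, hr, pow_one]
      · refine h.false_of_char hno ((commutator X).comap f) (char_of_mem fun φ v hv => ?_)
          (fun z hz => ?_) ?_
        · show f (φ v) ∈ commutator X
          rw [← hfmap]
          exact char_mem inferInstance φ hv
        · show z ^ p ∈ commutator X
          rw [hZe z hz]
          exact Subgroup.one_mem _
        · have hRZ : f.range = Z := Subgroup.eq_of_le_of_card_ge hR (by rw [hi, hr])
          rw [Subgroup.index_comap, hRZ,
            relIndex_of_cards hcomm (h.cardK.trans (pow_one p).symm) hi, pow_one]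

/-- An abelian group of type `(p ^ 2, p, p)`. -/
theorem quartic_abelian (hab : ∀ u v : X, u * v = v * u) (hcard : Nat.card X = p ^ 4)
    (hΦ : (frattini X).index = p ^ 3) :
    Nonempty (X ≃* Multiplicative (ZMod (p ^ 2) × ZMod p × ZMod p)) := by
  classical
  have hX : IsPGroup p X := IsPGroup.of_card hcard
  let f : X →* X := powEndo hab p
  have hΦc : Nat.card (frattini X) = p := by
    have h1 := (frattini X).card_mul_index
    rw [hΦ, hcard, pow_succ' p 3] at h1
    exact Nat.eq_of_mul_eq_mul_right (Nat.pow_pos hp.out.pos) h1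
  have hR : f.range ≤ frattini X := by rintro _ ⟨x, rfl⟩; exact PGroup.pow_mem_frattini hX x
  have hRc : Nat.card f.range = p := by
    have h1 := Subgroup.card_dvd_of_le hR
    rw [hΦc] at h1
    refine (hp.out.eq_one_or_self_of_dvd _ h1).resolve_left fun h2 => ?_
    have h3 : frattini X ≤ ⊥ := (PGroup.frattini_le_iff hX).2
      ⟨((commutator_eq_bot_iff_center_eq_top X).2
        (eq_top_iff.2 fun v _ => Subgroup.mem_center_iff.2 fun u => hab u v)).le,
       fun x => (Subgroup.card_eq_one.1 h2).le ⟨x, rfl⟩⟩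
    rw [le_bot_iff] at h3
    rw [h3, Subgroup.card_bot] at hΦc
    exact hp.out.ne_one hΦc.symm
  have hDc : Nat.card f.ker = p ^ 3 := by
    have h1 := f.ker.card_mul_index
    rw [Subgroup.index_ker, hRc, hcard, pow_succ p 3] at h1
    exact Nat.eq_of_mul_eq_mul_right hp.out.pos h1
  obtain ⟨a, ha⟩ : ∃ a : X, a ^ p ≠ 1 := by
    by_contra! h
    have : f.range = ⊥ := Subgroup.eq_bot_iff_forall _ |>.2 (by rintro _ ⟨x, rfl⟩; exact h x)
    rw [this, Subgroup.card_bot] at hRc
    exact hp.out.ne_one hRc.symm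
  have hap : (a ^ p) ^ p = 1 := by
    have h1 := pow_card_eq_one' (G := f.range) (x := ⟨a ^ p, a, rfl⟩)
    rw [hRc] at h1
    exact congrArg Subtype.val h1
  set K₀ := Subgroup.zpowers (a ^ p) with hK₀
  have hK₀c : Nat.card K₀ = p := by rw [Nat.card_zpowers, orderOf_eq_prime hap ha]
  have hK₀le : K₀ ≤ f.ker := Subgroup.zpowers_le.2 hap
  obtain ⟨b, hb, hbK⟩ : ∃ b ∈ f.ker, b ∉ K₀ := SetLike.not_le_iff_exists.1 fun h => by
    have h1 := Subgroup.card_le_of_le h
    rw [hDc, hK₀c] at h1
    exact absurd h1 (not_le.2 (by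
      calc p = p ^ 1 := (pow_one p).symm
        _ < p ^ 3 := Nat.pow_lt_pow_right hp.out.one_lt (by norm_num)))
  set K₁ := K₀ ⊔ Subgroup.zpowers b with hK₁
  have hK₁le : K₁ ≤ f.ker := sup_le hK₀le (Subgroup.zpowers_le.2 hb)
  have hbp : b ^ p = 1 := hb
  haveI : K₀.Normal := ⟨fun v hv u => by rw [hab u v, mul_inv_cancel_right]; exact hv⟩
  have hK₁c : Nat.card K₁ ≤ p ^ 2 := by
    refine (PGroup.card_sup_zpowers_le hp.out.pos (by rw [hbp]; exact K₀.one_mem)).trans ?_
    rw [hK₀c, pow_two]
  obtain ⟨c, hc, hcK⟩ : ∃ c ∈ f.ker, c ∉ K₁ := SetLike.not_le_iff_exists.1 fun h => by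
    have h1 := (Subgroup.card_le_of_le h).trans hK₁c
    rw [hDc, Nat.pow_le_pow_iff_right hp.out.one_lt] at h1
    omega
  have hcp : c ^ p = 1 := hc
  letI : CommGroup X := { (inferInstance : Group X) with mul_comm := hab }
  let toHom : (n : ℕ) → (u : X) → u ^ n = 1 → (ZMod n →+ Additive X) := fun n u hu => ZMod.lift n
    ⟨zmultiplesHom (Additive X) (Additive.ofMul u), by
      rw [zmultiplesHom_apply, natCast_zsmul]; exact congrArg Additive.ofMul hu⟩
  have ha2 : a ^ p ^ 2 = 1 := by rw [pow_two, pow_mul]; exact hap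
  let g : ZMod (p ^ 2) × ZMod p × ZMod p →+ Additive X :=
    (toHom _ a ha2).coprod ((toHom _ b hbp).coprod (toHom _ c hcp))
  set R : Subgroup X := AddSubgroup.toSubgroup' g.range with hRdef
  have hone : ∀ (n : ℕ) (u : X) (hu : u ^ n = 1), toHom n u hu ((1 : ℤ) : ZMod n) = Additive.ofMul u :=
    fun n u hu => by rw [ZMod.lift_coe]; simp
  have haR : a ∈ R := ⟨(((1 : ℤ) : ZMod (p ^ 2)), 0, 0), by
    simp [g, AddMonoidHom.coprod_apply]; exact (by simpa using hone _ a ha2 : toHom _ a ha2 1 = Additive.ofMul a)⟩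
  have hbR : b ∈ R := ⟨(0, ((1 : ℤ) : ZMod p), 0), by
    simp [g, AddMonoidHom.coprod_apply]; exact (by simpa using hone _ b hbp : toHom _ b hbp 1 = Additive.ofMul b)⟩
  have hcR : c ∈ R := ⟨(0, 0, ((1 : ℤ) : ZMod p)), by
    simp [g, AddMonoidHom.coprod_apply]; exact (by simpa using hone _ c hcp : toHom _ c hcp 1 = Additive.ofMul c)⟩
  have hK₁R : K₁ ≤ R := sup_le (Subgroup.zpowers_le.2 (R.pow_mem haR p)) (Subgroup.zpowers_le.2 hbR)
  have hDR : f.ker ≤ R := by
    have h1 : p * Nat.card K₁ ≤ Nat.card (K₁ ⊔ Subgroup.zpowers c : Subgroup X) :=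
      card_lt_mul hX (lt_sup_zpowers hcK)
    have h2 : p * Nat.card K₀ ≤ Nat.card K₁ := card_lt_mul hX (lt_sup_zpowers hbK)
    have h3 : K₁ ⊔ Subgroup.zpowers c = f.ker := by
      refine Subgroup.eq_of_le_of_card_ge (sup_le hK₁le (Subgroup.zpowers_le.2 hc)) ?_
      rw [hDc, pow_succ', pow_two]
      rw [hK₀c] at h2
      exact (Nat.mul_le_mul_left p h2).trans h1
    rw [← h3]
    exact sup_le hK₁R (Subgroup.zpowers_le.2 hcR)
  have hRtop : R = ⊤ := by
    refine Subgroup.eq_top_of_le_card _ ?_
    have hlt : f.ker < R := lt_of_le_of_ne hDR fun e => ha (e.ge haR)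
    have := card_lt_mul hX hlt
    rw [hDc, ← pow_succ'] at this
    exact hcard.le.trans this
  have hsurj : Function.Surjective g := fun v => by
    obtain ⟨z, hz⟩ := (hRtop.ge (Subgroup.mem_top (Additive.toMul v)) : Additive.toMul v ∈ R)
    exact ⟨z, hz⟩
  have hbij : Function.Bijective g := by
    refine (Nat.bijective_iff_surjective_and_card g).2 ⟨hsurj, ?_⟩
    rw [Nat.card_prod, Nat.card_prod, Nat.card_zmod, Nat.card_zmod, Nat.card_congr Additive.toMul,
      hcard]
    ring
  exact ⟨((AddEquiv.ofBijective g hbij).toMultiplicativeLeft).symm⟩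

end Cfsg.Agent.H73.SmallEssential
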