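import Mathlib
import Cfsg.Agent.Linear.GLTwo

/-! Two subgroups of order `p` in the automorphism group of an elementary abelian group of order
`p ^ 2` generate a copy of `SL(2, p)`. -/

set_option autoImplicit false
set_option linter.style.haveILetI false

open Matrix.SpecialLinearGroup (toGL)

namespace Cfsg.Agent.H73.SmallEssential

variable {p : ℕ} [hp : Fact p.Prime] {H : Type*} [Group H] [Finite H]

theorem exists_basis_two (A : Type*) [AddCommGroup A] [Finite A] [Module (ZMod p) A]
    (hcard : Nat.card A = p ^ 2) : Nonempty (Module.Basis (Fin 2) (ZMod p) A) := by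
  haveI : Module.Finite (ZMod p) A := Module.Finite.of_finite
  have hrank : Module.finrank (ZMod p) A = 2 := by
    have h : Nat.card A = Nat.card (ZMod p) ^ Module.finrank (ZMod p) A :=
      Module.natCard_eq_pow_finrank
    rw [hcard, Nat.card_zmod] at h
    exact (Nat.pow_right_injective hp.out.two_le h).symm
  exact ⟨Module.finBasisOfFinrankEq (ZMod p) A hrank⟩

theorem exists_embedding (hcomm : ∀ a b : H, a * b = b * a) (hexp : ∀ a : H, a ^ p = 1)
    (hcard : Nat.card H = p ^ 2) :
    ∃ Ψ : MulAut H →* GL (Fin 2) (ZMod p), Function.Injective Ψ := by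
  letI : CommGroup H := { (inferInstance : Group H) with mul_comm := hcomm }
  letI : Module (ZMod p) (Additive H) :=
    AddCommGroup.zmodModule (G := Additive H) fun v => by
      change (Additive.toMul v) ^ p = 1
      exact hexp _
  haveI : Finite (Additive H) := ‹Finite H›
  obtain ⟨b⟩ := exists_basis_two (p := p) (Additive H)
    (by rw [Nat.card_congr (Additive.toMul (α := H)), hcard])
  let lin : MulAut H → (Additive H →ₗ[ZMod p] Additive H) := fun α =>
    (MonoidHom.toAdditive α.toMonoidHom).toZModLinearMap p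
  let M : MulAut H →* Matrix (Fin 2) (Fin 2) (ZMod p) :=
    { toFun := fun α => LinearMap.toMatrix b b (lin α)
      map_one' := by
        rw [show lin 1 = LinearMap.id from LinearMap.ext fun v => rfl, LinearMap.toMatrix_id]
      map_mul' := fun α β => by
        rw [← LinearMap.toMatrix_comp b b b]
        exact congrArg _ (LinearMap.ext fun v => rfl) }
  refine ⟨M.toHomUnits, fun α β h => MulEquiv.ext fun v => ?_⟩
  have h1 : M α = M β := congrArg Units.val h
  have h2 : lin α = lin β := by
    have h3 : Matrix.toLin b b (LinearMap.toMatrix b b (lin α)) =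
        Matrix.toLin b b (LinearMap.toMatrix b b (lin β)) := congrArg (fun A => Matrix.toLin b b A) h1
    rwa [Matrix.toLin_toMatrix, Matrix.toLin_toMatrix] at h3
  exact congrArg Additive.toMul (LinearMap.congr_fun h2 (Additive.ofMul v))

theorem card_le_of_isPGroup {K : Subgroup (GL (Fin 2) (ZMod p))} (hK : IsPGroup p K) :
    Nat.card K ≤ p := by
  obtain ⟨Q, hQ⟩ := hK.exists_le_sylow
  have h1 := Subgroup.card_le_of_le hQ
  rwa [Linear.card_sylow_GL_two p Q, ZMod.card] at h1

theorem le_range_toGL {K : Subgroup (GL (Fin 2) (ZMod p))} (hK : Nat.card K = p) :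
    K ≤ (toGL : Matrix.SpecialLinearGroup (Fin 2) (ZMod p) →* _).range := by
  intro g hg
  have h1 : g ^ p = 1 := by
    have := pow_card_eq_one' (G := K) (x := ⟨g, hg⟩)
    rw [hK] at this
    exact congrArg Subtype.val this
  have h2 : (g : Matrix (Fin 2) (Fin 2) (ZMod p)).det = 1 := by
    rw [← ZMod.pow_card (g : Matrix (Fin 2) (Fin 2) (ZMod p)).det, ← Matrix.det_pow,
      ← Units.val_pow_eq_pow_val, h1, Units.val_one, Matrix.det_one]
  exact ⟨⟨_, h2⟩, Units.ext rfl⟩

theorem exists_SL_two (hcomm : ∀ a b : H, a * b = b * a) (hexp : ∀ a : H, a ^ p = 1)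
    (hcard : Nat.card H = p ^ 2) (G P₁ P₂ : Subgroup (MulAut H)) (h1 : P₁ ≤ G) (h2 : P₂ ≤ G)
    (hc1 : Nat.card P₁ = p) (hc2 : Nat.card P₂ = p) (hne : P₁ ≠ P₂) :
    ∃ K : Subgroup G, Nonempty (K ≃* Matrix.SpecialLinearGroup (Fin 2) (ZMod p)) := by
  obtain ⟨Ψ, hΨ⟩ := exists_embedding hcomm hexp hcard
  set ι : Matrix.SpecialLinearGroup (Fin 2) (ZMod p) →* GL (Fin 2) (ZMod p) := toGL with hι
  have hιinj : Function.Injective ι := fun u v h => Subtype.ext (congrArg Units.val h :)
  have hS : ∀ P : Subgroup (MulAut H), Nat.card P = p →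
      ∃ Q : Sylow p (Matrix.SpecialLinearGroup (Fin 2) (ZMod p)),
        (Q : Subgroup _).map ι = P.map Ψ := by
    intro P hP
    have hP' : Nat.card (P.map Ψ) = p := by rw [Subgroup.card_map_of_injective hΨ, hP]
    have hmap : ((P.map Ψ).comap ι).map ι = P.map Ψ := by
      rw [Subgroup.map_comap_eq, inf_eq_right]
      exact le_range_toGL hP'
    have hc : Nat.card ((P.map Ψ).comap ι) = p := by
      rw [← Subgroup.card_map_of_injective (K := (P.map Ψ).comap ι) hιinj, hmap, hP']
    obtain ⟨Q, hQ⟩ := (IsPGroup.of_card (n := 1) (by rw [hc, pow_one])).exists_le_sylow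
    refine ⟨Q, ?_⟩
    rw [← Subgroup.eq_of_le_of_card_ge hQ, hmap]
    rw [hc, Linear.card_sylow_SL_two p Q, ZMod.card]
  obtain ⟨Q₁, hQ₁⟩ := hS P₁ hc1
  obtain ⟨Q₂, hQ₂⟩ := hS P₂ hc2
  have hQ : Q₁ ≠ Q₂ := by
    rintro rfl
    exact hne (Subgroup.map_injective hΨ (hQ₁.symm.trans hQ₂))
  have hle : ι.range ≤ G.map Ψ := by
    rw [MonoidHom.range_eq_map, ← Linear.sylow_SL_two_sup_eq_top p hQ, Subgroup.map_sup, hQ₁, hQ₂]
    exact sup_le (Subgroup.map_mono h1) (Subgroup.map_mono h2)
  set K : Subgroup G := (ι.range).comap (Ψ.comp G.subtype) with hK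
  have hKmap : K.map (Ψ.comp G.subtype) = ι.range := by
    rw [hK, Subgroup.map_comap_eq, inf_eq_right, MonoidHom.range_comp, Subgroup.range_subtype]
    exact hle
  exact ⟨K, ⟨((K.equivMapOfInjective (Ψ.comp G.subtype) (hΨ.comp Subtype.val_injective)).trans
    (MulEquiv.subgroupCongr hKmap)).trans (MonoidHom.ofInjective hιinj).symm⟩⟩

end Cfsg.Agent.H73.SmallEssential
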